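import Groth.Agent.MilnorMoore.SubDual

/-!
# Large `p`-powers of the identity land in the span of the group-like elements
-/

set_option autoImplicit false
set_option linter.style.haveILetI false
set_option linter.unusedSectionVars false

universe u

open TensorProduct Coalgebra WithConv
open Groth.Agent.Comod Groth.Agent.MilnorMoore

noncomputable section

namespace Groth.Agent.WittUnip

variable (k : Type u) [Field k] (A : Type u) [CommRing A] [HopfAlgebra k A]

/-- The convolution powers of the identity. -/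
def nI (m : ℕ) : A →ₐ[k] A := ((toConv (AlgHom.id k A)) ^ m).ofConv

theorem toConv_nI (m : ℕ) : toConv (nI k A m) = (toConv (AlgHom.id k A)) ^ m := rfl

theorem nI_one : nI k A 1 = AlgHom.id k A := by simp [nI]

theorem nI_zero_apply (a : A) : nI k A 0 a = algebraMap k A (counit (R := k) a) := rfl

/-- Composition with an algebra map respects convolution powers. -/
theorem comp_convPow {B C : Type u} [CommRing B] [Algebra k B] [CommRing C] [Algebra k C]
    (h : B →ₐ[k] C) (f : WithConv (A →ₐ[k] B)) :
    ∀ m : ℕ, h.comp (f ^ m).ofConv = ((toConv (h.comp f.ofConv)) ^ m).ofConv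
  | 0 => by
    refine AlgHom.ext fun a => ?_
    show h (algebraMap k B (counit (R := k) a)) = algebraMap k C (counit (R := k) a)
    exact h.commutes _
  | m + 1 => by
    rw [pow_succ, pow_succ, AlgHom.comp_convMul_distrib, comp_convPow h f m]

theorem comp_nI {B : Type u} [CommRing B] [Algebra k B] (h : A →ₐ[k] B) (m : ℕ) :
    h.comp (nI k A m) = ((toConv h) ^ m).ofConv := by
  rw [nI, comp_convPow, ofConv_toConv, AlgHom.comp_id]

theorem nI_mul (a b : ℕ) : nI k A (a * b) = (nI k A a).comp (nI k A b) := by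
  rw [comp_nI, toConv_nI, ← pow_mul]
  rfl

theorem convMul_groupLike {B : Type u} [CommRing B] [Algebra k B] (f f' : WithConv (A →ₐ[k] B))
    {g : A} (hg : IsGroupLikeElem k g) : (f * f').ofConv g = f.ofConv g * f'.ofConv g := by
  show (f * f') g = _
  rw [AlgHom.convMul_apply, hg.comul_eq_tmul_self, Algebra.TensorProduct.lift_tmul]

theorem nI_groupLike {g : A} (hg : IsGroupLikeElem k g) : ∀ m : ℕ, nI k A m g = g ^ m
  | 0 => by rw [nI_zero_apply, hg.counit_eq_one, map_one, pow_zero]
  | m + 1 => by
    rw [pow_succ, nI, pow_succ, convMul_groupLike k A _ _ hg]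
    show nI k A m g * g = _
    rw [nI_groupLike hg m]

/-- The span of the group-like elements, as a subalgebra. -/
def glSpan : Subalgebra k A :=
  (Submodule.span k {g : A | IsGroupLikeElem k g}).toSubalgebra (Submodule.subset_span IsGroupLikeElem.one)
    (fun x y hx hy => by
      induction hx using Submodule.span_induction with
      | mem x hx =>
        induction hy using Submodule.span_induction with
        | mem y hy => exact Submodule.subset_span (IsGroupLikeElem.mul hx hy)
        | zero => rw [mul_zero]; exact zero_mem _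
        | add y z _ _ h1 h2 => rw [mul_add]; exact add_mem h1 h2
        | smul r y _ h1 => rw [mul_smul_comm]; exact Submodule.smul_mem _ r h1
      | zero => rw [zero_mul]; exact zero_mem _
      | add x z _ _ h1 h2 => rw [add_mul]; exact add_mem h1 h2
      | smul r x _ h1 => rw [smul_mul_assoc]; exact Submodule.smul_mem _ r h1)

theorem mem_glSpan {x : A} : x ∈ glSpan k A ↔ x ∈ Submodule.span k {g : A | IsGroupLikeElem k g} := Iff.rfl

theorem subset_glSpan {g : A} (hg : IsGroupLikeElem k g) : g ∈ glSpan k A :=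
  Submodule.subset_span hg

theorem nI_mem_glSpan {x : A} (hx : x ∈ glSpan k A) (m : ℕ) : nI k A m x ∈ glSpan k A := by
  rw [mem_glSpan] at hx
  induction hx using Submodule.span_induction with
  | mem y hy => rw [nI_groupLike k A hy]; exact subset_glSpan k A hy.pow
  | zero => rw [map_zero]; exact zero_mem _
  | add x z _ _ h1 h2 => rw [map_add]; exact add_mem h1 h2
  | smul r x _ h1 => rw [map_smul]; exact (glSpan k A).smul_mem h1 r

variable [Coalgebra.IsCocomm k A]

omit [Coalgebra.IsCocomm k A] in
theorem exists_subC_finset (s : Finset A) : ∃ C : SubC k A, ∀ x ∈ s, x ∈ C.D := by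
  classical
  obtain ⟨S, hS, hfin⟩ := exists_finite_subcomod_finset (K := k) (C := A) (V := A) (s ∪ {1})
  exact ⟨⟨cf (V := A) (C := A) (ofDSub S), isSubcoalgebra_cf (isSubcomod_ofDSub S), finite_cf _,
    counit_mem_cf (hS 1 (by simp))⟩, fun x hx => counit_mem_cf (hS x (by simp [hx]))⟩

variable (C : SubC k A)

theorem sum_counit_bar :
    ∑ i, counit (R := k) (Module.finBasis k C.D i : A) • bar C i = 1 := by
  apply ev_injective C
  refine LinearMap.ext fun d => ?_
  rw [map_sum, LinearMap.sum_apply]
  simp only [map_smul, LinearMap.smul_apply, smul_eq_mul, ev_bar]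
  rw [show (1 : DQ C) = mkQ' C 1 from (map_one _).symm, ev_mk]
  show _ = algebraMap k k (counit (R := k) (d : A))
  rw [Algebra.algebraMap_self, RingHom.id_apply]
  conv_rhs => rw [← sum_ev_bar C d, map_sum]
  refine Finset.sum_congr rfl fun i _ => ?_
  rw [map_smul, smul_eq_mul, ev_bar, mul_comm]

/-- The element of `C` attached to a character of the dual algebra. -/
def chiElem (χ : DQ C →ₐ[k] k) : A := ∑ i, χ (bar C i) • (Module.finBasis k C.D i : A)

theorem isGroupLikeElem_chiElem (χ : DQ C →ₐ[k] k) : IsGroupLikeElem k (chiElem k A C χ) := by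
  refine ⟨?_, ?_⟩
  · rw [chiElem, map_sum, ← map_one χ, ← sum_counit_bar k A C, map_sum]
    refine Finset.sum_congr rfl fun i _ => ?_
    rw [map_smul, map_smul, smul_eq_mul, smul_eq_mul, mul_comm]
  · let e : DQ C ⊗[k] (A ⊗[k] A) →ₐ[k] A ⊗[k] A :=
      (Algebra.TensorProduct.lid k (A ⊗[k] A)).toAlgHom.comp (Algebra.TensorProduct.map χ (AlgHom.id k _))
    have he : ∀ r t, e (r ⊗ₜ t) = χ r • t := fun r t => by simp [e]
    have h := congrArg e (univ_mul C)
    rw [map_mul] at h
    simp only [univ, map_sum, Algebra.TensorProduct.map_tmul, AlgHom.id_apply, he,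
      Algebra.TensorProduct.includeLeft_apply, Algebra.TensorProduct.includeRight_apply,
      Bialgebra.comulAlgHom_apply] at h
    rw [chiElem, map_sum]
    simp only [map_smul]
    rw [← h]
    simp only [Finset.sum_mul_sum, TensorProduct.sum_tmul, TensorProduct.tmul_sum,
      TensorProduct.smul_tmul', TensorProduct.tmul_smul, mul_smul_comm,
      Algebra.TensorProduct.tmul_mul_tmul, mul_one, one_mul]
    rw [Finset.sum_comm]
    refine Finset.sum_congr rfl fun y _ => ?_
    rw [Finset.smul_sum]
    refine Finset.sum_congr rfl fun x _ => ?_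
    rw [TensorProduct.smul_tmul']

/-- The universal element, transported by an endomorphism. -/
abbrev uPush (f : A →ₐ[k] A) : DQ C ⊗[k] A →ₐ[k] DQ C ⊗[k] A :=
  Algebra.TensorProduct.map (AlgHom.id k (DQ C)) f

theorem uPush_conv (f g : WithConv (A →ₐ[k] A)) :
    uPush k A C (f * g).ofConv (univ C) = uPush k A C f.ofConv (univ C) * uPush k A C g.ofConv (univ C) := by
  let h : A ⊗[k] A →ₐ[k] A := Algebra.TensorProduct.lift f.ofConv g.ofConv fun _ _ => .all _ _
  let H : DQ C ⊗[k] (A ⊗[k] A) →ₐ[k] DQ C ⊗[k] A := Algebra.TensorProduct.map (AlgHom.id k _) h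
  have h0 : ∀ x, H (f₀ C x) = uPush k A C (f * g).ofConv x := fun x => by
    induction x using TensorProduct.induction_on with
    | zero => simp
    | tmul r a =>
      simp only [H, f₀, uPush, Algebra.TensorProduct.map_tmul, AlgHom.id_apply, Bialgebra.comulAlgHom_apply]
      congr 1
      exact (AlgHom.convMul_apply f g a).symm
    | add x y hx hy => simp only [map_add, hx, hy]
  have h1 : ∀ x, H (f₁ C x) = uPush k A C f.ofConv x := fun x => by
    induction x using TensorProduct.induction_on with
    | zero => simp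
    | tmul r a => simp [H, h, f₁, uPush]
    | add x y hx hy => simp only [map_add, hx, hy]
  have h2 : ∀ x, H (f₂ C x) = uPush k A C g.ofConv x := fun x => by
    induction x using TensorProduct.induction_on with
    | zero => simp
    | tmul r a => simp [H, h, f₂, uPush]
    | add x y hx hy => simp only [map_add, hx, hy]
  rw [← h0, ← univ_mul, map_mul, h1, h2]

theorem uPush_nI : ∀ m : ℕ, uPush k A C (nI k A (m + 1)) (univ C) = univ C ^ (m + 1)
  | 0 => by
    rw [nI_one, pow_one]
    show Algebra.TensorProduct.map _ _ _ = _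
    rw [Algebra.TensorProduct.map_id]
    rfl
  | m + 1 => by
    rw [nI, pow_succ, uPush_conv, ofConv_toConv]
    show uPush k A C (nI k A (m + 1)) (univ C) * uPush k A C (AlgHom.id k A) (univ C) = _
    rw [uPush_nI m]
    congr 1
    show Algebra.TensorProduct.map _ _ _ = _
    rw [Algebra.TensorProduct.map_id]
    rfl

variable (p : ℕ) [Fact p.Prime] [CharP k p] [IsAlgClosed k]

theorem exists_nilradical_pow :
    ∃ N : ℕ, ∀ r ∈ nilradical (DQ C), r ^ (p ^ N) = 0 := by
  obtain ⟨N, hN⟩ := IsArtinianRing.isNilpotent_nilradical (R := DQ C)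
  refine ⟨N, fun r hr => ?_⟩
  have h1 : r ^ N ∈ nilradical (DQ C) ^ N := Ideal.pow_mem_pow hr N
  rw [hN] at h1
  exact pow_eq_zero_of_le (Nat.lt_pow_self (Fact.out (p := p.Prime)).one_lt).le h1

omit [Fact p.Prime] [CharP k p] in
theorem exists_lifts : ∃ (X : Type u) (_ : Fintype X) (χ : X → (DQ C →ₐ[k] k)) (d : X → DQ C),
    ∀ r : DQ C, r - ∑ x, χ x r • d x ∈ nilradical (DQ C) := by
  classical
  haveI : Finite (MaximalSpectrum (DQ C)) := inferInstance
  let X := MaximalSpectrum (DQ C)
  haveI : Fintype X := Fintype.ofFinite X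
  have hbij : ∀ I : X, Function.Bijective (algebraMap k (DQ C ⧸ I.asIdeal)) := fun I => by
    haveI := I.isMaximal
    haveI : IsDomain (DQ C ⧸ I.asIdeal) := Ideal.Quotient.isDomain _
    haveI : Algebra.IsIntegral k (DQ C ⧸ I.asIdeal) := Algebra.IsIntegral.of_finite k _
    exact IsAlgClosed.algebraMap_bijective_of_isIntegral
  let χ : X → (DQ C →ₐ[k] k) := fun I =>
    (AlgEquiv.ofBijective (Algebra.ofId k (DQ C ⧸ I.asIdeal)) (hbij I)).symm.toAlgHom.comp
      (Ideal.Quotient.mkₐ k I.asIdeal)
  have hχ : ∀ I r, algebraMap k (DQ C ⧸ I.asIdeal) (χ I r) = Ideal.Quotient.mk I.asIdeal r := fun I r => by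
    show (AlgEquiv.ofBijective (Algebra.ofId k _) (hbij I)) (χ I r) = _
    simp [χ]
  choose d hd using fun I : X =>
    Ideal.Quotient.mk_surjective ((IsArtinianRing.quotNilradicalEquivPi (DQ C)).symm (Pi.single I 1))
  have hd' : ∀ I J : X, Ideal.Quotient.mk J.asIdeal (d I) = (Pi.single I 1 : ∀ L : X, DQ C ⧸ L.asIdeal) J :=
    fun I J => by
      have := congrArg (fun t => IsArtinianRing.quotNilradicalEquivPi (DQ C) t J) (hd I)
      simp only [AlgEquiv.apply_symm_apply] at this
      exact this
  refine ⟨X, inferInstance, χ, d, fun r => ?_⟩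
  rw [IsArtinianRing.nilradical_eq_iInf, Submodule.mem_iInf]
  intro J
  rw [← Ideal.Quotient.eq_zero_iff_mem, map_sub, map_sum, Finset.sum_eq_single J]
  · rw [Algebra.smul_def, map_mul, hd', Pi.single_eq_same, mul_one, Ideal.Quotient.mk_algebraMap, hχ,
      sub_self]
  · intro I _ hI
    rw [Algebra.smul_def, map_mul, hd', Pi.single_eq_of_ne hI.symm, mul_zero]
  · exact fun h => absurd (Finset.mem_univ J) h

theorem aux_contract (φ : DQ C →ₗ[k] k) (t : DQ C ⊗[k] A) (f : A →ₐ[k] A) :
    cL φ (uPush k A C f t) = f (cL φ t) := by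
  induction t using TensorProduct.induction_on with
  | zero => simp
  | tmul r a => simp [uPush]
  | add x y hx hy => simp only [map_add, hx, hy]

theorem exists_nI_mem_glSpan : ∃ N : ℕ, ∀ x ∈ C.D, nI k A (p ^ N) x ∈ glSpan k A := by
  classical
  obtain ⟨N, hN⟩ := exists_nilradical_pow k A C p
  obtain ⟨X, _, χ, d, hd⟩ := exists_lifts k A C
  refine ⟨N, fun x hx => ?_⟩
  obtain ⟨M, hM⟩ := Nat.exists_eq_add_of_le' (Nat.one_le_pow N p (Fact.out (p := p.Prime)).pos)
  have key := uPush_nI k A C M
  rw [← hM] at key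
  let φ : DQ C →ₗ[k] k := (Module.Dual.eval k C.D ⟨x, hx⟩).comp (ev C)
  have h1 : cL φ (univ C) = x := by
    rw [univ, map_sum]
    simp only [cL_tmul]
    exact sum_ev_bar C ⟨x, hx⟩
  have h2 := congrArg (cL φ) key
  rw [aux_contract, h1] at h2
  rw [h2]
  haveI : Nontrivial (DQ C ⊗[k] A) :=
    ((Algebra.TensorProduct.lift (augQ C) (Bialgebra.counitAlgHom k A) fun _ _ => .all _ _).toRingHom).domain_nontrivial
  haveI : Nontrivial (DQ C) := (augQ C).toRingHom.domain_nontrivial
  haveI : CharP (DQ C ⊗[k] A) p := charP_of_injective_algebraMap (algebraMap k _).injective p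
  haveI : CharP (DQ C) p := charP_of_injective_algebraMap (algebraMap k _).injective p
  haveI : ExpChar (DQ C ⊗[k] A) p := ExpChar.prime (Fact.out (p := p.Prime))
  haveI : ExpChar (DQ C) p := ExpChar.prime (Fact.out (p := p.Prime))
  have hbar : ∀ i, bar C i ^ p ^ N = ∑ y, (χ y (bar C i)) ^ p ^ N • d y ^ p ^ N := fun i => by
    have := hN _ (hd (bar C i))
    rw [sub_pow_char_pow, sub_eq_zero, sum_pow_char_pow] at this
    simp only [smul_pow] at this
    exact this
  haveI : Nontrivial A := (Bialgebra.counitAlgHom k A).toRingHom.domain_nontrivial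
  haveI : CharP A p := charP_of_injective_algebraMap (algebraMap k A).injective p
  haveI : ExpChar A p := ExpChar.prime (Fact.out (p := p.Prime))
  have hsum : cL φ (univ C ^ p ^ N) = ∑ y, φ (d y ^ p ^ N) • (chiElem k A C (χ y)) ^ p ^ N := by
    simp only [univ, chiElem, sum_pow_char_pow, map_sum, Algebra.TensorProduct.tmul_pow, cL_tmul, hbar,
      map_smul, smul_eq_mul, smul_pow, Finset.sum_smul, Finset.smul_sum, smul_smul]
    rw [Finset.sum_comm]
    refine Finset.sum_congr rfl fun y _ => Finset.sum_congr rfl fun i _ => ?_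
    rw [mul_comm]
  rw [hsum]
  exact Subalgebra.sum_mem _ fun y _ => Subalgebra.smul_mem _
    (subset_glSpan k A (isGroupLikeElem_chiElem k A C (χ y)).pow) _

end Groth.Agent.WittUnip
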