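import Groth.Agent.FinHopf.GrpScheme
import Groth.Agent.GrpField.Irreducible
import Groth.Agent.SmoothRed.Scheme
import Groth.Agent.WittUnip.Span
import Groth.Prelude.Def_Red

/-!
# Coordinate Hopf algebras of connected smooth commutative affine groups
-/

set_option autoImplicit false
set_option linter.style.haveILetI false
set_option linter.unusedSectionVars false

universe u

open CategoryTheory CategoryTheory.Limits MonoidalCategory CartesianMonoidalCategory MonObj GrpObj
open AlgebraicGeometry TensorProduct WithConv

noncomputable section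

namespace Groth.Agent.WittUnip

/-- The coordinate Hopf algebra of a commutative group is cocommutative. -/
theorem isCocomm_of_iso {k A : Type u} [CommRing k] [CommRing A] [HopfAlgebra k A]
    {G : Over (Spec (CommRingCat.of k))} [GrpObj G] [IsCommMonObj G]
    (e : (Spec (CommRingCat.of A)).asOver (Spec (CommRingCat.of k)) ≅ G) [IsMonHom e.hom] :
    Coalgebra.IsCocomm k A := by
  refine ⟨LinearMap.ext fun a => ?_⟩
  let i₁ : WithConv (A →ₐ[k] A ⊗[k] A) := toConv Algebra.TensorProduct.includeLeft
  let i₂ : WithConv (A →ₐ[k] A ⊗[k] A) := toConv Algebra.TensorProduct.includeRight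
  have h : i₂ * i₁ = i₁ * i₂ := by
    apply (Spec.mapMulEquiv (R := k) (S := A) (T := A ⊗[k] A)).injective
    rw [map_mul, map_mul, ← cancel_mono e.hom, MonObj.mul_comp, MonObj.mul_comp, mul_comm]
  have h' := congr(($h).ofConv a)
  simp only [AlgHom.convMul_def, i₁, i₂, ofConv_toConv, AlgHom.comp_apply,
    Bialgebra.comulAlgHom_apply] at h'
  show TensorProduct.comm k A A (Coalgebra.comul a) = Coalgebra.comul a
  have e₁ : ∀ t : A ⊗[k] A, TensorProduct.comm k A A t = Algebra.TensorProduct.lmul' k
      (Algebra.TensorProduct.map (Algebra.TensorProduct.includeRight : A →ₐ[k] A ⊗[k] A)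
        Algebra.TensorProduct.includeLeft t) := fun t => by
    induction t using TensorProduct.induction_on with
    | zero => simp
    | tmul x y => simp
    | add x y hx hy => simp only [map_add, hx, hy]
  have e₂ : ∀ t : A ⊗[k] A, Algebra.TensorProduct.lmul' k
      (Algebra.TensorProduct.map (Algebra.TensorProduct.includeLeft : A →ₐ[k] A ⊗[k] A)
        Algebra.TensorProduct.includeRight t) = t := fun t => by
    induction t using TensorProduct.induction_on with
    | zero => simp
    | tmul x y => simp
    | add x y hx hy => simp only [map_add, hx, hy]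
  exact (e₁ _).trans (h'.trans (e₂ _))

/-- Powers of the identity of a group in terms of convolution powers on the coordinate ring. -/
theorem id_pow_eq_one_iff {k A : Type u} [Field k] [CommRing A] [HopfAlgebra k A]
    {G : Over (Spec (CommRingCat.of k))} [GrpObj G]
    (e : (Spec (CommRingCat.of A)).asOver (Spec (CommRingCat.of k)) ≅ G) [IsMonHom e.hom] (m : ℕ) :
    (𝟙 G : G ⟶ G) ^ m = 1 ↔ ∀ a, nI k A m a = algebraMap k A (Coalgebra.counit (R := k) a) := by
  have hid : Spec.mapMulEquiv (R := k) (S := A) (T := A) (toConv (AlgHom.id k A)) =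
      𝟙 ((Spec (CommRingCat.of A)).asOver (Spec (CommRingCat.of k))) := by
    ext1
    exact Spec.map_id (CommRingCat.of A)
  have hiff : (𝟙 G : G ⟶ G) ^ m = 1 ↔
      (𝟙 ((Spec (CommRingCat.of A)).asOver (Spec (CommRingCat.of k)))) ^ m = 1 := by
    rw [← cancel_epi e.hom, MonObj.comp_pow, Category.comp_id, MonObj.comp_one,
      ← cancel_mono e.hom (g := _ ^ m), MonObj.pow_comp, Category.id_comp, MonObj.one_comp]
  rw [hiff, ← hid, ← map_pow, ← map_one (Spec.mapMulEquiv (R := k) (S := A) (T := A))]
  rw [(Spec.mapMulEquiv (R := k) (S := A) (T := A)).injective.eq_iff]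
  constructor
  · intro h a
    exact congrArg (fun t : WithConv (A →ₐ[k] A) => t.ofConv a) h
  · intro h
    exact WithConv.ofConv_injective (AlgHom.ext h)

variable {k : Type u} [Field k] [IsAlgClosed k]
  (G : Over (Spec (CommRingCat.of k))) [GrpObj G] [IsCommMonObj G]
  [Smooth G.hom] [ConnectedSpace ↥G.left] [IsAffine G.left]

/-- The coordinate Hopf algebra of a connected smooth commutative affine group. -/
theorem exists_coordHopf : ∃ (A : Type u) (_ : CommRing A) (_ : HopfAlgebra k A)
    (e : (Spec (CommRingCat.of A)).asOver (Spec (CommRingCat.of k)) ≅ G),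
      IsMonHom e.hom ∧ IsDomain A ∧ Algebra.FiniteType k A ∧ Algebra.Smooth k A ∧ Coalgebra.IsCocomm k A := by
  obtain ⟨A, _, e, he⟩ := FinHopf.exists_hopf G
  haveI := he
  haveI : IsIso e.hom.left := inferInstanceAs (IsIso ((Over.forget _).map e.hom))
  haveI : IrreducibleSpace ↥G.left := GrpField.irreducibleSpace_of_nhds (GrpField.exists_irreducible_nhd G)
  haveI : AlgebraicGeometry.IsReduced G.left := SmoothRed.isReduced_of_smooth_scheme G.hom
  let φ : Spec A ⟶ G.left := e.hom.left
  haveI hφ : IsIso φ := inferInstanceAs (IsIso e.hom.left)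
  haveI : AlgebraicGeometry.IsReduced (Spec A) := isReduced_of_isOpenImmersion φ
  haveI : IrreducibleSpace ↥(Spec A) :=
    Function.Surjective.irreducibleSpace (asIso φ).inv.continuous (asIso φ).inv.surjective
  haveI : IsIntegral (Spec A) := isIntegral_of_irreducibleSpace_of_isReduced _
  have hdom : IsDomain A :=
    (Scheme.ΓSpecIso A).symm.commRingCatIsoToRingEquiv.toMulEquiv.isDomain _
  let f : Spec A ⟶ Spec (CommRingCat.of k) := Spec.map (CommRingCat.ofHom (algebraMap k A))
  have hf : f = φ ≫ G.hom := (Over.w e.hom).symm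
  haveI : MorphismProperty.RespectsIso @Smooth.{u} :=
    HasRingHomProperty.eq_affineLocally (P := @Smooth.{u}) ▸ affineLocally_respectsIso (P := RingHom.Smooth) RingHom.Smooth.propertyIsLocal.respectsIso
  have hsm : Smooth f := by
    rw [hf, MorphismProperty.cancel_left_of_respectsIso @Smooth.{u}]
    infer_instance
  have hs : Algebra.Smooth k A := RingHom.smooth_algebraMap.1 ((HasRingHomProperty.Spec_iff (P := @Smooth)).1 hsm)
  refine ⟨A, inferInstance, inferInstance, e, he, hdom, ?_, hs, isCocomm_of_iso (k := k) (A := A) e⟩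
  haveI : Algebra.FinitePresentation k A := hs.finitePresentation
  infer_instance

theorem topologicalKrullDim_eq {A : Type u} [CommRing A] [Algebra k A]
    {H : Over (Spec (CommRingCat.of k))}
    (e : (Spec (CommRingCat.of A)).asOver (Spec (CommRingCat.of k)) ≅ H) :
    topologicalKrullDim ↥H.left = ringKrullDim A := by
  haveI : IsIso e.hom.left := inferInstanceAs (IsIso ((Over.forget _).map e.hom))
  rw [← PrimeSpectrum.topologicalKrullDim_eq_ringKrullDim A]
  exact (IsHomeomorph.topologicalKrullDim_eq _ e.hom.left.homeomorph.isHomeomorph).symm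

end Groth.Agent.WittUnip
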