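import Groth.Agent.WittUnip.Quot

/-!
# Embeddings into products of Witt groups
-/

set_option autoImplicit false
set_option linter.style.haveILetI false
set_option linter.unusedSectionVars false
set_option backward.isDefEq.respectTransparency.types false

universe u

open CategoryTheory CategoryTheory.Limits MonoidalCategory CartesianMonoidalCategory MonObj GrpObj
open AlgebraicGeometry TopologicalSpace
open Groth.Agent.WittHom
open Groth.Agent.WittSub (val val_mul val_injective)

noncomputable section

namespace Groth.Agent.WittUnip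

variable {p : ℕ} [Fact p.Prime] {k : Type u} [Field k] [IsAlgClosed k] [CharP k p]

theorem mono_V {n m : ℕ} (h : n ≤ m) : Mono (WittGrp.V p (Spec (CommRingCat.of k)) h) := by
  refine ⟨fun {T} a b hab => WittGrp.pts_injective p T ?_⟩
  have h' := congrArg (fun f => WittGrp.pts p T (Additive.ofMul f)) hab
  simp only [WittGrp.pts_V] at h'
  refine TruncatedWittVector.ext fun i => ?_
  have h'' := congrArg (fun v : TruncatedWittVector p m _ => v.coeff ⟨i + (m - n), by omega⟩) h'
  simpa [WittGrp.coeff_shift] using h''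

theorem isMonHom_one (G H : Over (Spec (CommRingCat.of k))) [GrpObj G] [GrpObj H] : IsMonHom (1 : G ⟶ H) :=
  WittGrp.isMonHom_of_comp_mul _ (MonObj.comp_one _) fun T a b => by
    rw [MonObj.comp_one, MonObj.comp_one, MonObj.comp_one, _root_.one_mul]

theorem pt_add {n : ℕ} (x y : TW p n k) : (pt (x + y) : 𝟙_ (Over (Spec (CommRingCat.of k))) ⟶ _) = pt x * pt y :=
  val_injective (by rw [val_mul, val_pt, val_pt, val_pt])

theorem eq_pt_val {n : ℕ} (x : 𝟙_ (Over (Spec (CommRingCat.of k))) ⟶ WittGrp.W p n (Spec (CommRingCat.of k))) :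
    x = pt (val x) :=
  val_injective (val_pt _).symm

section cocycle

variable {E K : Over (Spec (CommRingCat.of k))} [GrpObj E] [GrpObj K] [IsCommMonObj E] {n m : ℕ}
  {x : E ⟶ WittGrp.W p m (Spec (CommRingCat.of k))} {i : K ⟶ E} [IsMonHom x] [IsMonHom i] (S : Sect x i)
  (a : K ⟶ WittGrp.W p n (Spec (CommRingCat.of k))) [IsMonHom a]

theorem isCoc_cT : WittExt.IsCoc (fun u v : TW p m k => val (S.cT (pt u) (pt v) ≫ a)) where
  poly := by
    have h : (fun z : TW p (m + m) k => val (S.cT (pt (WittExt.lft z)) (pt (WittExt.rgt z)) ≫ a)) =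
        act (S.cT (WittExt.Lm m) (WittExt.Rm m) ≫ a) := funext fun z => by
      rw [act, ← Category.assoc, S.comp_cT]
      congr 3 <;> refine val_injective ?_ <;> rw [val_pt, val_comp_eq_act, val_pt]
      · exact (WittExt.act_Lm z).symm
      · exact (WittExt.act_Rm z).symm
    show Groth.Agent.WittHom.IsPoly _
    rw [h]
    exact isPoly_act _
  zero u := by rw [WittExt.pt_zero, S.cT_one, MonObj.one_comp, WittExt.val_one]
  symm u v := by rw [S.cT_symm]
  coc u v w := by
    simp only [pt_add, ← val_mul, ← MonObj.mul_comp, S.cT_coc]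

/-- A homomorphism on the kernel extends one step up. -/
theorem exists_extend [Smooth E.hom] {x : E ⟶ WittGrp.W p 1 (Spec (CommRingCat.of k))} [IsMonHom x] (S : Sect x i) :
    ∃ h : E ⟶ WittGrp.W p (n + 1) (Spec (CommRingCat.of k)), IsMonHom h ∧
      i ≫ h = a ≫ WittGrp.V p (Spec (CommRingCat.of k)) (Nat.le_succ n) := by
  haveI := IsAlgClosed.instInfinite (K := k)
  haveI := (Groth.Agent.S12182.result p k (n + 1)).1
  haveI := WittHom.isAffine_W (p := p) (k := k) (n + 1)
  obtain ⟨ψ, hψ, B, hB, hB0, hc⟩ := WittExt.exists_class2 n _ (isCoc_cT S a)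
  let Bh : TW p 1 k → TW p (n + 1) k := fun u => WittGrp.shift p (Nat.le_succ n) (B u) + pad (n + 1) (ψ u)
  have hBh : IsPoly Bh := (hB.shift _).add (isPoly_pad.comp hψ)
  have key : ∀ u v, WittGrp.shift p (Nat.le_succ n) (val (S.cT (pt u) (pt v) ≫ a)) + Bh (u + v) = Bh u + Bh v := by
    intro u v
    simp only [hc u v, Bh, WittExt.dd, map_add (WittGrp.shift (R := k) p (Nat.le_succ n)),
      map_sub (WittGrp.shift (R := k) p (Nat.le_succ n)), WittExt.shift_zz, map_add ψ]
    abel
  obtain ⟨B', hB'⟩ := WittExt.exists_mor Bh hBh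
  have hB'0 : act B' 0 = 0 := by
    rw [hB']
    simp [Bh, hB0, WittExt.pad_zero]
  let h := (S.r ≫ a ≫ WittGrp.V p (Spec (CommRingCat.of k)) (Nat.le_succ n)) * (x ≫ B')
  haveI : IsSeparated (WittGrp.W p (n + 1) (Spec (CommRingCat.of k))).hom := inferInstance
  refine ⟨h, isMonHom_of_pt h fun e e' => val_injective ?_, ?_⟩
  · have hv : ∀ e : 𝟙_ (Over (Spec (CommRingCat.of k))) ⟶ E, val (e ≫ h) =
        WittGrp.shift p (Nat.le_succ n) (val ((e ≫ S.r) ≫ a)) + Bh (val (e ≫ x)) := fun e => by
      simp only [h, MonObj.comp_mul, val_mul, ← Category.assoc]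
      rw [val_comp_eq_act, act_V, val_comp_eq_act B', hB']
    rw [val_mul, hv, hv, hv, S.mul_r, MonObj.mul_comp, MonObj.mul_comp, val_mul, val_mul, MonObj.mul_comp, val_mul,
      map_add, map_add]
    have hk := key (val (e ≫ x)) (val (e' ≫ x))
    rw [← eq_pt_val, ← eq_pt_val] at hk
    linear_combination (norm := abel) hk
  · simp only [h, MonObj.comp_mul, ← Category.assoc, S.i_r, Category.id_comp]
    rw [show i ≫ x = 1 by simpa using S.i_comp_π (𝟙 _)]
    have h1 : (1 : 𝟙_ (Over (Spec (CommRingCat.of k))) ⟶ _) ≫ B' = 1 := val_injective (by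
      rw [val_comp_eq_act, WittExt.val_one, hB'0, WittExt.val_one])
    have h2 : ((1 : K ⟶ _) ≫ B') = 1 := by
      have h' := congrArg (toUnit K ≫ ·) h1
      simp only [← Category.assoc, MonObj.comp_one] at h'
      exact h'
    rw [h2, _root_.mul_one]

end cocycle

/-- Every unipotent group embeds into a product of Witt groups. -/
theorem exists_mono_PW (G : UG p k) :
    ∃ (l : List ℕ) (j : G.X ⟶ (PW p k l).X), IsMonHom j ∧ Mono j ∧ IsClosedImmersion j.left := by
  induction hd : G.dm using Nat.strong_induction_on generalizing G with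
  | _ d ih =>
    suffices hs : ∃ (l : List ℕ) (j : G.X ⟶ (PW p k l).X), IsMonHom j ∧ Mono j by
      obtain ⟨l, j, hj, hm⟩ := hs
      haveI := hj
      haveI := hm
      haveI : QuasiCompact j.left := by
        haveI : QuasiCompact (j.left ≫ (PW p k l).X.hom) := by rw [Over.w]; infer_instance
        exact QuasiCompact.of_comp j.left (PW p k l).X.hom
      exact ⟨l, j, hj, hm, GrpField.isClosedImmersion_of_mono j⟩
    rcases Nat.eq_zero_or_pos G.dm with h0 | h0
    · refine ⟨[], 1, isMonHom_one _ _, ⟨fun {T} a b _ => ?_⟩⟩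
      have h1 : 𝟙 G.X = 1 := hom_ext_pt fun e => by rw [Category.comp_id, MonObj.comp_one, eq_one_of_dm_zero h0 e]
      rw [← Category.comp_id a, ← Category.comp_id b, h1, MonObj.comp_one, MonObj.comp_one]
    · obtain ⟨N, x, i, hx, hi, hic, ⟨S⟩, hlt⟩ := exists_top G h0
      haveI := hx
      haveI := hi
      obtain ⟨l, a, ha, ham, -⟩ := ih N.dm (hd ▸ hlt) N rfl
      haveI := ha
      haveI := ham
      have hext : ∀ (l : List ℕ) (a : N.X ⟶ (PW p k l).X), IsMonHom a →
          ∃ h : G.X ⟶ (PW p k (l.map (· + 1))).X, IsMonHom h ∧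
            ∀ (T : Over (Spec (CommRingCat.of k))) (e : T ⟶ N.X), (e ≫ i) ≫ h = 1 → e ≫ a = 1 := by
        intro l
        induction l with
        | nil => exact fun a _ => ⟨1, isMonHom_one _ _, fun T e _ => PW.hom_ext_nil _ _⟩
        | cons n l ihl =>
          intro a ha
          haveI := ha
          obtain ⟨h₁, hh₁, e₁⟩ := exists_extend (S := S) (a ≫ PW.head n l)
          obtain ⟨h₂, hh₂, e₂⟩ := ihl (a ≫ PW.tail n l) inferInstance
          haveI := hh₁
          haveI := hh₂
          refine ⟨PW.mk (n := n + 1) (l := l.map (· + 1)) h₁ h₂, PW.isMonHom_mk h₁ h₂, fun T e he => ?_⟩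
          have k1 : (e ≫ i) ≫ h₁ = 1 := by
            have := congrArg (· ≫ PW.head (n + 1) (l.map (· + 1))) he
            simpa [MonObj.one_comp] using this
          have k2 : (e ≫ i) ≫ h₂ = 1 := by
            have := congrArg (· ≫ PW.tail (n + 1) (l.map (· + 1))) he
            simpa [MonObj.one_comp] using this
          refine PW.hom_ext ?_ ?_
          · haveI := mono_V (p := p) (k := k) (Nat.le_succ n)
            rw [← cancel_mono (WittGrp.V p (Spec (CommRingCat.of k)) (Nat.le_succ n)), MonObj.one_comp, MonObj.one_comp,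
              Category.assoc, Category.assoc, ← Category.assoc a, ← e₁, ← Category.assoc]
            exact k1
          · rw [Category.assoc, MonObj.one_comp]
            exact e₂ T e k2
      obtain ⟨h, hh, he⟩ := hext l a ha
      haveI := hh
      refine ⟨1 :: l.map (· + 1), PW.mk x h, PW.isMonHom_mk x h, ⟨fun {T} f g hfg => ?_⟩⟩
      have k1 : (f * g⁻¹) ≫ x = 1 := by
        have := congrArg (· ≫ PW.head 1 (l.map (· + 1))) hfg
        simp only [Category.assoc, PW.mk_head] at this
        rw [MonObj.mul_comp, GrpObj.inv_comp, this, mul_inv_cancel]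
      have k2 : (f * g⁻¹) ≫ h = 1 := by
        have := congrArg (· ≫ PW.tail 1 (l.map (· + 1))) hfg
        simp only [Category.assoc, PW.mk_tail] at this
        rw [MonObj.mul_comp, GrpObj.inv_comp, this, mul_inv_cancel]
      obtain ⟨n, hn⟩ := exists_pt_of_ker S.ker k1
      rw [← hn] at k2
      have h3 := he T n k2
      have h4 : n = 1 := (cancel_mono a).1 (by rw [h3, MonObj.one_comp])
      rw [h4, MonObj.one_comp] at hn
      exact mul_inv_eq_one.1 hn.symm

end Groth.Agent.WittUnip
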