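import Groth.Agent.WittUnip.GLike
import Groth.Agent.WittUnip.Affine
import Groth.Agent.MTBridge.Charts

/-!
# A connected commutative unipotent group of dimension `n` is killed by `p ^ n`
-/

set_option autoImplicit false
set_option linter.style.haveILetI false
set_option linter.unusedSectionVars false
set_option backward.isDefEq.respectTransparency.types false

universe u

open CategoryTheory CategoryTheory.Limits MonoidalCategory CartesianMonoidalCategory MonObj GrpObj
open AlgebraicGeometry TensorProduct WithConv Opposite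
open scoped CategoryTheory.Obj

noncomputable section

namespace Groth.Agent.WittUnip

theorem isTorus_specGrp (k : Type u) [Field k] (r : ℕ) :
    Red.IsTorus (MTBridge.specGrp k (MonoidAlgebra k (Multiplicative (Fin r → ℤ)))).X := by
  obtain ⟨i⟩ := MTBridge.nonempty_DS_iso k (Fin r → ℤ)
  refine ⟨_, 𝟙 (Spec (CommRingCat.of k)), inferInstance, inferInstance,
    fun V hV => ⟨V, hV.isCompact, ?_⟩, fun s' => ⟨⊤, trivial, r, ?_⟩⟩
  · simp
  · exact ⟨MTBridge.bcMapIso _ i.symm ≪≫ MTBridge.bcDS _ (Fin r → ℤ)⟩

/-- Without subtori, the identity is `p`-power torsion. -/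
theorem exists_pow_eq_counit {k : Type u} [Field k] [IsAlgClosed k] {A : Type u} [CommRing A] [IsDomain A]
    [HopfAlgebra k A] [Coalgebra.IsCocomm k A] [Algebra.FiniteType k A] (p : ℕ) [Fact p.Prime] [CharP k p]
    {G : Over (Spec (CommRingCat.of k))} [GrpObj G] (hG : Red.HasNoSubtorus k G)
    (e : (Spec (CommRingCat.of A)).asOver (Spec (CommRingCat.of k)) ≅ G) [IsMonHom e.hom] :
    ∃ N : ℕ, ∀ a, nI k A (p ^ N) a = algebraMap k A (Coalgebra.counit (R := k) a) := by
  obtain ⟨N, r, π, hπ, hfin⟩ := exists_torus_image k A p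
  refine ⟨N, hfin ?_⟩
  let B := MonoidAlgebra k (Multiplicative (Fin r → ℤ))
  let ψ : MTBridge.specGrp k B ⟶ MTBridge.specGrp k A :=
    (hopfSpec (CommRingCat.of k)).map (CommHopfAlgCat.ofHom π).op
  let j : (MTBridge.specGrp k B).X ⟶ G := ψ.hom.hom ≫ e.hom
  haveI : IsMonHom ψ.hom.hom := ψ.hom.isMonHom_hom
  haveI : IsMonHom j := inferInstanceAs (IsMonHom (ψ.hom.hom ≫ e.hom))
  haveI : Mono ψ.hom.hom := by
    haveI : IsClosedImmersion ((Over.forget _).map ψ.hom.hom) :=
      IsClosedImmersion.spec_of_surjective (CommRingCat.ofHom (π : A →+* B)) hπ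
    exact (Over.forget _).mono_of_mono_map (inferInstance : Mono ((Over.forget _).map ψ.hom.hom))
  haveI : Mono j := mono_comp ψ.hom.hom e.hom
  have hT : Red.IsTrivialGrp (MTBridge.specGrp k B).X := hG _ j (isTorus_specGrp k r)
  have hiso : IsIso (Spec.map (CommRingCat.ofHom (algebraMap k B))) := hT
  haveI : IsIso (Scheme.Spec.map (CommRingCat.ofHom (algebraMap k B)).op) := hiso
  haveI : IsIso (CommRingCat.ofHom (algebraMap k B)).op := isIso_of_fully_faithful Scheme.Spec _
  haveI : IsIso (CommRingCat.ofHom (algebraMap k B)) := isIso_of_op _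
  exact (ConcreteCategory.isIso_iff_bijective (CommRingCat.ofHom (algebraMap k B))).1 inferInstance

/-- The kernels of the powers of the identity form a chain of primes. -/
theorem pow_dim_eq_counit {k : Type u} [Field k] {A : Type u} [CommRing A] [IsDomain A]
    [HopfAlgebra k A] (p : ℕ) (n : ℕ) (hdim : ringKrullDim A = n)
    (hN : ∃ N : ℕ, ∀ a, nI k A (p ^ N) a = algebraMap k A (Coalgebra.counit (R := k) a)) (a : A) :
    nI k A (p ^ n) a = algebraMap k A (Coalgebra.counit (R := k) a) := by
  classical
  let I : ℕ → Ideal A := fun i => RingHom.ker (nI k A (p ^ i))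
  have hε : ∀ (i : ℕ) (x : A), Coalgebra.counit (R := k) (nI k A i x) = Coalgebra.counit (R := k) x := fun i x => by
    have h := comp_nI k A (Bialgebra.counitAlgHom k A) i
    have h1 : toConv (Bialgebra.counitAlgHom k A) = (1 : WithConv (A →ₐ[k] k)) :=
      WithConv.ofConv_injective (AlgHom.ext fun y => rfl)
    rw [h1, one_pow] at h
    exact congrArg (fun f : A →ₐ[k] k => f x) h
  let J : Ideal A := RingHom.ker (Bialgebra.counitAlgHom k A)
  have hJmax : J.IsMaximal :=
    RingHom.ker_isMaximal_of_surjective (Bialgebra.counitAlgHom k A) fun c => ⟨algebraMap k A c, by simp⟩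
  have hle : ∀ i, I i ≤ J := fun i x hx => by
    show Coalgebra.counit (R := k) x = 0
    rw [← hε (p ^ i) x, show nI k A (p ^ i) x = 0 from hx, map_zero]
  have hsucc : ∀ i, I i ≤ I (i + 1) := fun i x hx => by
    show nI k A (p ^ (i + 1)) x = 0
    rw [pow_succ', nI_mul, AlgHom.comp_apply, show nI k A (p ^ i) x = 0 from hx, map_zero]
  have hstab : ∀ i, I i = I (i + 1) → I (i + 1) = I (i + 1 + 1) := fun i h => by
    refine le_antisymm (hsucc _) fun x hx => ?_
    have h1 : nI k A p x ∈ I (i + 1) := by
      show nI k A (p ^ (i + 1)) (nI k A p x) = 0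
      rw [← AlgHom.comp_apply, ← nI_mul, ← pow_succ]
      exact hx
    rw [← h] at h1
    show nI k A (p ^ (i + 1)) x = 0
    rw [pow_succ, nI_mul, AlgHom.comp_apply]
    exact h1
  obtain ⟨N, hN⟩ := hN
  have htop : ∀ i, I i = J → ∀ x, nI k A (p ^ i) x = algebraMap k A (Coalgebra.counit (R := k) x) := fun i h x => by
    have h1 : x - algebraMap k A (Coalgebra.counit (R := k) x) ∈ I i := by
      rw [h]
      show Coalgebra.counit (R := k) (x - algebraMap k A (Coalgebra.counit (R := k) x)) = 0
      rw [map_sub, Bialgebra.counit_algebraMap, sub_self]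
    have h2 : nI k A (p ^ i) (x - algebraMap k A (Coalgebra.counit (R := k) x)) = 0 := h1
    rwa [map_sub, AlgHom.commutes, sub_eq_zero] at h2
  refine htop n ?_ a
  by_contra hne
  have hINJ : I N = J := le_antisymm (hle N) fun x hx => by
    show nI k A (p ^ N) x = 0
    rw [hN x, show Coalgebra.counit (R := k) x = 0 from hx, map_zero]
  have hstrict : ∀ i < n + 1, I i ≠ J := by
    intro i hi h
    refine hne (le_antisymm (hle n) ?_)
    rw [← h]
    exact monotone_nat_of_le_succ hsucc (by omega)
  have hlt : ∀ i, I i ≠ J → I i < I (i + 1) := by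
    intro i hi
    refine lt_of_le_of_ne (hsucc i) fun h => hi ?_
    have hconst : ∀ d, I (i + d) = I i := by
      intro d
      induction d with
      | zero => rfl
      | succ d ih =>
        have : ∀ d, I (i + d) = I (i + d + 1) := by
          intro d
          induction d with
          | zero => exact h
          | succ d ih' => exact hstab _ ih'
        rw [← Nat.add_assoc, ← this d, ih]
    refine le_antisymm (hle i) ?_
    rw [← hINJ, ← hconst N]
    exact monotone_nat_of_le_succ hsucc (by omega)
  let S : LTSeries (PrimeSpectrum A) :=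
    { length := n + 1
      toFun := fun i => ⟨I (i : ℕ), RingHom.ker_isPrime _⟩
      step := fun i => by
        show I (i : ℕ) < I ((i : ℕ) + 1)
        exact hlt _ (hstrict _ i.2) }
  have hS := Order.LTSeries.length_le_krullDim S
  rw [show Order.krullDim (PrimeSpectrum A) = (n : WithBot ℕ∞) from hdim] at hS
  simp only [S] at hS
  norm_cast at hS
  omega

/-- A connected commutative unipotent group of dimension `n` is killed by `p ^ n`. -/
theorem pow_p_pow_dim {k : Type u} [Field k] [IsAlgClosed k] (p : ℕ) [Fact p.Prime] [CharP k p]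
    (G : Over (Spec (CommRingCat.of k))) [GrpObj G] [IsCommMonObj G]
    [Smooth G.hom] [ConnectedSpace ↥G.left] [IsAffine G.left] (hG : Red.HasNoSubtorus k G) (n : ℕ)
    (hdim : topologicalKrullDim ↥G.left = n) : (𝟙 G) ^ (p ^ n) = 1 := by
  obtain ⟨A, _, _, e, he, _, _, _, _⟩ := exists_coordHopf G
  haveI := he
  rw [id_pow_eq_one_iff e]
  exact pow_dim_eq_counit p n (by rw [← topologicalKrullDim_eq e, hdim]) (exists_pow_eq_counit p hG e)

end Groth.Agent.WittUnip
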