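import Groth.Agent.WittUnip.Conil
import Groth.Agent.CommMult.Over
import Groth.Agent.CommMult.Main
import Groth.Agent.WittUnip.Period

/-!
# Without subtori the coordinate ring is conilpotent, in any characteristic
-/

set_option autoImplicit false
set_option linter.style.haveILetI false
set_option linter.unusedSectionVars false
set_option synthInstance.maxHeartbeats 400000
set_option maxHeartbeats 800000

universe u

open CategoryTheory CategoryTheory.Limits MonoidalCategory CartesianMonoidalCategory MonObj GrpObj
open AlgebraicGeometry TensorProduct Coalgebra WithConv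
open Groth.Agent.DiagUnip (aug isHopfIdeal_aug mem_of_dbar)
open Groth.Agent.CommMult (conilAlg)

noncomputable section

namespace Groth.Agent.WittUnip

variable {k : Type u} [Field k] [IsAlgClosed k] {A : Type u} [CommRing A] [IsDomain A] [HopfAlgebra k A]
  [Coalgebra.IsCocomm k A] [Algebra.FiniteType k A]

theorem isConil_of_noSubtorus {G : Over (Spec (CommRingCat.of k))} [GrpObj G] (hG : Red.HasNoSubtorus k G)
    (e : (Spec (CommRingCat.of A)).asOver (Spec (CommRingCat.of k)) ≅ G) [IsMonHom e.hom] :
    UnipConil.IsConil k A := by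
  classical
  have hC := CommMult.isSubHopf_conilAlg (k := k) (A := A)
  haveI hJ : (aug (conilAlg k A)).IsHopfIdeal k := isHopfIdeal_aug hC
  haveI : IsCocomm k (A ⧸ aug (conilAlg k A)) := CommMult.isCocomm_quot _
  have hdiag : SGA3b.IsDiag k (A ⧸ aug (conilAlg k A)) :=
    MultT.isDiag_of_span (UnipMult.span_groupLike_eq_top (K := k) (C := A ⧸ aug (conilAlg k A))
      fun x hx => CommMult.prim_eq_zero x hx)
  let q : A →ₐc[k] A ⧸ aug (conilAlg k A) := Bialgebra.Quotient.mkBialgHom (aug (conilAlg k A))
  have hq : Function.Surjective q := Ideal.Quotient.mk_surjective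
  have hdiag' := hdiag
  obtain ⟨M, _, ⟨E⟩⟩ := hdiag'
  haveI : Algebra.FiniteType k (A ⧸ aug (conilAlg k A)) :=
    Algebra.FiniteType.of_surjective (Ideal.Quotient.mkₐ k _) Ideal.Quotient.mk_surjective
  haveI : Algebra.FiniteType k (MonoidAlgebra k M) :=
    Algebra.FiniteType.equiv ‹Algebra.FiniteType k (A ⧸ aug (conilAlg k A))› (E : _ ≃ₐ[k] _)
  haveI : Group.FG M := MonoidAlgebra.finiteType_iff_group_fg.1 ‹Algebra.FiniteType k (MonoidAlgebra k M)›
  haveI : IsMulTorsionFree M := by
    rw [isMulTorsionFree_iff_not_isOfFinOrder]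
    intro m hm hfo
    obtain ⟨n, hn, hpow⟩ := isOfFinOrder_iff_pow_eq_one.mp hfo
    have hE : ∀ m : M, IsGroupLikeElem k (E.symm (MonoidAlgebra.single m 1)) := fun m =>
      (MonoidAlgebra.isGroupLikeElem_of (R := k) (A := k) (M := M) m).map E.symm
    obtain ⟨g, hg, hgm⟩ := CommMult.exists_groupLike_lift q hq hdiag (hE m)
    have hqn : q (g ^ n) = 1 := by
      rw [map_pow, hgm, ← map_pow, MonoidAlgebra.single_pow, one_pow, hpow, ← MonoidAlgebra.one_def, map_one]
    have hmem : g ^ n ∈ conilAlg k A := by
      refine mem_of_dbar hC ?_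
      show Algebra.TensorProduct.map (AlgHom.id k A) (Ideal.Quotient.mkₐ k _) (comul (R := k) (g ^ n)) = _
      rw [(hg.pow (n := n)).comul_eq_tmul_self, Algebra.TensorProduct.map_tmul]
      exact congrArg _ hqn
    obtain ⟨d, hd⟩ := hmem
    have hgn : g ^ n = 1 := CommMult.groupLike_eq_one_of_filt (hg.pow (n := n)) d hd
    have hg1 : g = 1 := groupLike_eq_one_of_pow k A hg hn hgn
    rw [hg1, map_one] at hgm
    have h := congrArg E hgm
    rw [map_one, E.apply_symm_apply, MonoidAlgebra.one_def] at h
    exact hm (MonoidAlgebra.single_left_injective one_ne_zero h).symm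
  haveI : Module.IsTorsionFree ℤ (Additive M) := Module.isTorsionFree_int_iff_isAddTorsionFree.mpr inferInstance
  haveI : Module.Finite ℤ (Additive M) := Module.Finite.iff_addGroup_fg.mpr inferInstance
  haveI : Module.Free ℤ (Additive M) := Module.free_of_finite_type_torsion_free'
  let b : (Fin (Module.finrank ℤ (Additive M)) → ℤ) ≃+ Additive M :=
    (Module.finBasis ℤ (Additive M)).equivFun.symm.toAddEquiv
  let B := MonoidAlgebra k (Multiplicative (Fin (Module.finrank ℤ (Additive M)) → ℤ))
  let bm : M ≃* Multiplicative (Fin (Module.finrank ℤ (Additive M)) → ℤ) := (AddEquiv.toMultiplicativeLeft b).symm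
  let π : A →ₐc[k] B := ((MonoidAlgebra.mapDomainBialgHom k bm.toMonoidHom).comp E.toBialgHom).comp q
  have hbij : Function.Bijective ((MonoidAlgebra.mapDomainBialgHom k bm.toMonoidHom).comp E.toBialgHom) := by
    show Function.Bijective ((MonoidAlgebra.mapDomainBialgHom k bm.toMonoidHom) ∘ E)
    refine Function.Bijective.comp ⟨?_, ?_⟩ E.bijective
    · intro x y h
      exact MonoidAlgebra.mapDomain_injective bm.injective h
    · intro y
      induction y using MonoidAlgebra.induction_linear with
      | zero => exact ⟨0, map_zero _⟩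
      | add x y hx hy =>
        obtain ⟨x', hx⟩ := hx
        obtain ⟨y', hy⟩ := hy
        exact ⟨x' + y', by rw [map_add, hx, hy]⟩
      | single x r => exact ⟨MonoidAlgebra.single (bm.symm x) r, by simp⟩
  have hπ : Function.Surjective π := hbij.2.comp hq
  let ψ : MTBridge.specGrp k B ⟶ MTBridge.specGrp k A :=
    (hopfSpec (CommRingCat.of k)).map (CommHopfAlgCat.ofHom π).op
  let j : (MTBridge.specGrp k B).X ⟶ G := ψ.hom.hom ≫ e.hom
  haveI : IsMonHom ψ.hom.hom := ψ.hom.isMonHom_hom
  haveI : IsMonHom j := inferInstanceAs (IsMonHom (ψ.hom.hom ≫ e.hom))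
  haveI : Mono ψ.hom.hom := by
    haveI : IsClosedImmersion ((Over.forget _).map ψ.hom.hom) :=
      IsClosedImmersion.spec_of_surjective (CommRingCat.ofHom (π : A →+* B)) hπ
    exact (Over.forget _).mono_of_mono_map (inferInstance : Mono ((Over.forget _).map ψ.hom.hom))
  haveI : Mono j := mono_comp ψ.hom.hom e.hom
  have hiso : IsIso (Spec.map (CommRingCat.ofHom (algebraMap k B))) :=
    (hG _ j (isTorus_specGrp k _) : Red.IsTrivialGrp (MTBridge.specGrp k B).X)
  haveI : IsIso (Scheme.Spec.map (CommRingCat.ofHom (algebraMap k B)).op) := hiso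
  haveI : IsIso (CommRingCat.ofHom (algebraMap k B)).op := isIso_of_fully_faithful Scheme.Spec _
  haveI : IsIso (CommRingCat.ofHom (algebraMap k B)) := isIso_of_op _
  have hB : Function.Surjective (algebraMap k B) :=
    ((ConcreteCategory.isIso_iff_bijective (CommRingCat.ofHom (algebraMap k B))).1 inferInstance).2
  -- so the quotient consists of the constants
  have hconst : ∀ a, q a = algebraMap k _ (counit (R := k) a) := by
    intro a
    apply hbij.1
    obtain ⟨c, hc⟩ := hB (π a)
    have hc' : counit (R := k) a = c := by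
      rw [← CoalgHomClass.counit_comp_apply π a, ← hc, Bialgebra.counit_algebraMap]
    refine Eq.trans hc.symm ?_
    rw [hc']
    exact (AlgHomClass.commutes ((MonoidAlgebra.mapDomainBialgHom k bm.toMonoidHom).comp E.toBialgHom) c).symm
  intro a
  have hmem : a ∈ conilAlg k A := by
    refine mem_of_dbar hC ?_
    show Algebra.TensorProduct.map (AlgHom.id k A) (Ideal.Quotient.mkₐ k _) (comul (R := k) a) = _
    have key : ∀ t : A ⊗[k] A, Algebra.TensorProduct.map (AlgHom.id k A) (Ideal.Quotient.mkₐ k (aug (conilAlg k A))) t =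
        (TensorProduct.rid k A ((counit (R := k) (A := A)).lTensor A t)) ⊗ₜ[k] 1 := fun t => by
      induction t using TensorProduct.induction_on with
      | zero => simp
      | tmul x y =>
        rw [Algebra.TensorProduct.map_tmul, AlgHom.id_apply, LinearMap.lTensor_tmul, TensorProduct.rid_tmul,
          TensorProduct.smul_tmul]
        show x ⊗ₜ[k] q y = _
        rw [hconst y, Algebra.algebraMap_eq_smul_one]
      | add x y hx hy => simp only [map_add, hx, hy, TensorProduct.add_tmul]
    rw [key, Coalgebra.lTensor_counit_comul, TensorProduct.rid_tmul, one_smul]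
  exact hmem

end Groth.Agent.WittUnip
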