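import Groth.Agent.WittUnip.Cover
import Groth.Agent.WittUnip.Conil0
import Groth.Agent.UnipZero.Poly

/-!
# Connected commutative unipotent groups are affine spaces
-/

set_option autoImplicit false
set_option linter.style.haveILetI false
set_option linter.unusedSectionVars false
set_option backward.isDefEq.respectTransparency.types false

universe u

open CategoryTheory CategoryTheory.Limits MonoidalCategory CartesianMonoidalCategory MonObj GrpObj
open AlgebraicGeometry TopologicalSpace

noncomputable section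

namespace Groth.Agent.WittUnip

variable {k : Type u} [Field k] [IsAlgClosed k]

theorem nonempty_W_succ (p : ℕ) [Fact p.Prime] [CharP k p] (n : ℕ) :
    Nonempty (WittGrp.W p 1 (Spec (CommRingCat.of k)) ⊗ WittGrp.W p n (Spec (CommRingCat.of k)) ≅
      WittGrp.W p (n + 1) (Spec (CommRingCat.of k))) := by
  haveI := IsAlgClosed.instInfinite (K := k)
  obtain ⟨-, -, -, hker⟩ := Groth.Agent.S12170.result p (Spec (CommRingCat.of k)) n 1
  obtain ⟨P, hP⟩ := WittExt.exists_mor (p := p) (k := k) (WittHom.pad (n + 1) : WittHom.TW p n k → WittHom.TW p (n + 1) k)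
    WittHom.isPoly_pad
  have hPR : P ≫ WittGrp.R p (Spec (CommRingCat.of k)) (Nat.le_add_right n 1) = 𝟙 _ := WittHom.hom_ext fun v => by
    rw [WittHom.act_comp, WittHom.act_R, hP, WittHom.truncate_pad, WittHom.act, Category.comp_id, WittHom.val_pt]
  obtain ⟨S⟩ := Sect.nonempty_of_section P hPR hker
  exact ⟨S.iso⟩

theorem exists_iso_W (p : ℕ) [Fact p.Prime] [CharP k p] (G : UG p k) :
    ∃ n, Nonempty (G.X ≅ WittGrp.W p n (Spec (CommRingCat.of k))) := by
  induction hd : G.dm using Nat.strong_induction_on generalizing G with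
  | _ d ih =>
    subst hd
    rcases Nat.eq_zero_or_pos G.dm with h0 | h0
    · haveI := isMonHom_one G.X (WittGrp.W p 0 (Spec (CommRingCat.of k)))
      haveI := isMonHom_one (WittGrp.W p 0 (Spec (CommRingCat.of k))) G.X
      refine ⟨0, ⟨⟨(1 : G.X ⟶ _), (1 : WittGrp.W p 0 (Spec (CommRingCat.of k)) ⟶ G.X), ?_, ?_⟩⟩⟩
      · rw [MonObj.one_comp]
        exact hom_ext_pt fun b => by rw [MonObj.comp_one, Category.comp_id, eq_one_of_dm_zero h0 b]
      · rw [MonObj.one_comp]
        exact (WittHom.hom_ext fun v => TruncatedWittVector.ext fun i => i.elim0)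
    · obtain ⟨N, x, j, hx, hj, -, ⟨S⟩, hlt⟩ := exists_top G h0
      haveI := hx
      obtain ⟨n, ⟨E⟩⟩ := ih N.dm hlt N rfl
      obtain ⟨F⟩ := nonempty_W_succ (k := k) p n
      refine ⟨n + 1, ⟨S.iso.symm ≪≫ ⟨lift (snd _ _) (fst _ _ ≫ E.hom), lift (snd _ _ ≫ E.inv) (fst _ _), ?_, ?_⟩ ≪≫ F⟩⟩
      · refine CartesianMonoidalCategory.hom_ext _ _ ?_ ?_ <;>
          simp only [Category.assoc, lift_fst, lift_snd, lift_fst_assoc, lift_snd_assoc, Iso.hom_inv_id,
            Iso.inv_hom_id, Category.comp_id, Category.id_comp]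
      · refine CartesianMonoidalCategory.hom_ext _ _ ?_ ?_ <;>
          simp only [Category.assoc, lift_fst, lift_snd, lift_fst_assoc, lift_snd_assoc, Iso.hom_inv_id,
            Iso.inv_hom_id, Category.comp_id, Category.id_comp]

/-- The statement in coordinates. -/
theorem exists_iso_mvPolynomial (U : Over (Spec (CommRingCat.of k))) [GrpObj U] [IsCommMonObj U]
    [Smooth U.hom] [ConnectedSpace ↥U.left] [IsAffine U.left] (hU : Red.HasNoSubtorus k U) :
    ∃ (n : ℕ) (e : U.left ≅ Spec (CommRingCat.of (MvPolynomial (Fin n) k))),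
      e.hom ≫ Spec.map (CommRingCat.ofHom (algebraMap k (MvPolynomial (Fin n) k))) = U.hom := by
  obtain ⟨p, hp⟩ := CharP.exists k
  rcases CharP.char_is_prime_or_zero k p with hpr | rfl
  · haveI := Fact.mk hpr
    obtain ⟨N, hN⟩ := exists_ug_of_noSubtorus (p := p) U hU
    obtain ⟨n, ⟨E⟩⟩ := exists_iso_W p (UG.of U ⟨N, hN⟩)
    let r : MvPolynomial (ULift.{u} (Fin n)) k ≃ₐ[k] MvPolynomial (Fin n) k := MvPolynomial.renameEquiv k Equiv.ulift
    refine ⟨n, (Over.forget _).mapIso E ≪≫ AffineSpace.SpecIso (ULift.{u} (Fin n)) (CommRingCat.of k) ≪≫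
      Scheme.Spec.mapIso (r.symm.toRingEquiv.toCommRingCatIso).op, ?_⟩
    have hE : E.hom.left ≫ (𝔸(ULift.{u} (Fin n); Spec (CommRingCat.of k)) ↘ Spec (CommRingCat.of k)) = U.hom :=
      Over.w E.hom
    rw [← hE]
    simp only [Iso.trans_hom, Functor.mapIso_hom, Category.assoc]
    congr 1
    refine (cancel_epi (AffineSpace.SpecIso (ULift.{u} (Fin n)) (CommRingCat.of k)).inv).1 ?_
    refine Eq.trans ?_ (AffineSpace.SpecIso_inv_over (n := ULift.{u} (Fin n)) (CommRingCat.of k)).symm
    erw [Iso.inv_hom_id_assoc]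
    show Spec.map _ ≫ Spec.map _ = _
    rw [← Spec.map_comp]
    congr 1
    exact CommRingCat.hom_ext (RingHom.ext fun c => r.symm.commutes c)
  · haveI := CharP.charP_to_charZero k
    obtain ⟨A, _, _, e, he, _, _, _, _⟩ := exists_coordHopf U
    haveI := he
    obtain ⟨n, x, hind, hgen, -⟩ := UnipZero.exists_generators (isConil_of_noSubtorus hU e)
    let φ : MvPolynomial (Fin n) k →ₐ[k] A := MvPolynomial.aeval x
    have hφ : Function.Bijective φ := ⟨hind, fun a => by
      have ha : a ∈ (MvPolynomial.aeval (R := k) x).range := by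
        rw [← Algebra.adjoin_range_eq_range_aeval, hgen]; exact Algebra.mem_top
      exact ha⟩
    let r := AlgEquiv.ofBijective φ hφ
    refine ⟨n, (Over.forget _).mapIso e.symm ≪≫ Scheme.Spec.mapIso (r.toRingEquiv.toCommRingCatIso).op, ?_⟩
    have hE : e.inv.left ≫ Spec.map (CommRingCat.ofHom (algebraMap k A)) = U.hom := Over.w e.inv
    rw [← hE]
    simp only [Iso.trans_hom, Functor.mapIso_hom, Category.assoc]
    congr 1
    show Spec.map _ ≫ Spec.map _ = _
    rw [← Spec.map_comp]
    congr 1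
    ext c
    exact r.commutes c

end Groth.Agent.WittUnip
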