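import Groth.Agent.WittUnip.Emb

/-!
# Quotients of products of Witt groups
-/

set_option autoImplicit false
set_option linter.style.haveILetI false
set_option linter.unusedSectionVars false
set_option backward.isDefEq.respectTransparency.types false

universe u

open CategoryTheory CategoryTheory.Limits MonoidalCategory CartesianMonoidalCategory MonObj GrpObj
open AlgebraicGeometry TopologicalSpace
open Groth.Agent.WittHom
open Groth.Agent.WittSub (val val_mul val_injective)

noncomputable section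

namespace Groth.Agent.WittUnip

variable {p : ℕ} [Fact p.Prime] {k : Type u} [Field k] [IsAlgClosed k]

/-- A kernel in an affine commutative group is commutative, and a lift to it is multiplicative. -/
theorem isMonHom_of_comp_mono {A B C : Over (Spec (CommRingCat.of k))} [GrpObj A] [GrpObj B] [GrpObj C]
    (a : A ⟶ B) (j : B ⟶ C) [Mono j] [IsMonHom j] (c : A ⟶ C) [IsMonHom c] (h : a ≫ j = c) : IsMonHom a :=
  WittGrp.isMonHom_of_comp_mul a
    (by rw [← cancel_mono j, Category.assoc, h, MonObj.one_comp, MonObj.one_comp])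
    fun T x y => by
      rw [← cancel_mono j]
      simp only [MonObj.mul_comp, Category.assoc, h]

theorem isCommMonObj_of_mono {B C : Over (Spec (CommRingCat.of k))} [GrpObj B] [GrpObj C] [IsCommMonObj C]
    (j : B ⟶ C) [Mono j] [IsMonHom j] : IsCommMonObj B :=
  isCommMonObj_iff_isMulCommutative _ |>.2 fun T => ⟨⟨fun a b => by
    rw [← cancel_mono j, MonObj.mul_comp, MonObj.mul_comp, mul_comm]⟩⟩

theorem mono_of_isKernel {N G Q : Over (Spec (CommRingCat.of k))} [GrpObj Q] {i : N ⟶ G} {q : G ⟶ Q}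
    (h : AlgGrp.IsKernel i q) : Mono i :=
  ⟨fun _ _ e => h.hom_ext e (toUnit_unique _ _)⟩

theorem comp_eq_one {N G Q : Over (Spec (CommRingCat.of k))} [GrpObj Q] {i : N ⟶ G} {q : G ⟶ Q}
    (h : AlgGrp.IsKernel i q) {T : Over (Spec (CommRingCat.of k))} (a : T ⟶ N) : (a ≫ i) ≫ q = 1 := by
  rw [Category.assoc, h.w, ← Category.assoc, toUnit_unique (a ≫ toUnit _) (toUnit _), Hom.one_def]

/-- Recognising kernels on points. -/
theorem isKernel_of_points {N G Q : Over (Spec (CommRingCat.of k))} [GrpObj Q] (i : N ⟶ G) (q : G ⟶ Q) [Mono i]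
    (h1 : i ≫ q = 1) (h2 : ∀ (T : Over (Spec (CommRingCat.of k))) (a : T ⟶ G), a ≫ q = 1 → ∃ n : T ⟶ N, n ≫ i = a) :
    AlgGrp.IsKernel i q := by
  have hw : i ≫ q = toUnit N ≫ η[Q] := by rw [h1, Hom.one_def]
  have hc : ∀ c : PullbackCone q η[Q], c.fst ≫ q = 1 := fun c => by
    rw [c.condition, toUnit_unique c.snd (toUnit _), Hom.one_def]
  refine IsPullback.of_isLimit' ⟨hw⟩ (PullbackCone.IsLimit.mk _ (fun c => (h2 _ _ (hc c)).choose)
    (fun c => (h2 _ _ (hc c)).choose_spec) (fun c => toUnit_unique _ _) fun c m hm _ => ?_)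
  exact (cancel_mono i).1 (hm.trans (h2 _ _ (hc c)).choose_spec.symm)

theorem isClosedImmersion_of_mono_hom {G H : Over (Spec (CommRingCat.of k))} [GrpObj G] [GrpObj H]
    [LocallyOfFiniteType G.hom] [QuasiCompact G.hom] [LocallyOfFiniteType H.hom] [IsSeparated H.hom]
    (j : G ⟶ H) [IsMonHom j] [Mono j] : IsClosedImmersion j.left := by
  haveI : QuasiCompact j.left := by
    haveI : QuasiCompact (j.left ≫ H.hom) := by rw [Over.w]; infer_instance
    exact QuasiCompact.of_comp j.left H.hom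
  exact GrpField.isClosedImmersion_of_mono j

variable [CharP k p]

/-- A homomorphism to the quotient by `W_1` lifts after one step. -/
theorem exists_lift_hom {G Q : UG p k} {q : G.X ⟶ Q.X} [IsMonHom q]
    {i : WittGrp.W p 1 (Spec (CommRingCat.of k)) ⟶ G.X} [IsMonHom i] (S : Sect q i) {n : ℕ} (hn : 1 ≤ n)
    (u : WittGrp.W p n (Spec (CommRingCat.of k)) ⟶ Q.X) [IsMonHom u] :
    ∃ φ : WittGrp.W p (n + 1) (Spec (CommRingCat.of k)) ⟶ G.X, IsMonHom φ ∧
      φ ≫ q = WittGrp.R p (Spec (CommRingCat.of k)) (Nat.le_add_right n 1) ≫ u := by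
  obtain ⟨j, rfl⟩ : ∃ j, n = j + 1 := ⟨n - 1, by omega⟩
  let W : UG p k := UG.W p k (j + 1)
  let M : UG p k := UG.prod G W
  let a : M.X ⟶ G.X := fst G.X W.X
  let b : M.X ⟶ W.X := snd G.X W.X
  haveI : IsMonHom a := inferInstanceAs (IsMonHom (fst G.X W.X))
  haveI : IsMonHom b := inferInstanceAs (IsMonHom (snd G.X W.X))
  let d : M.X ⟶ Q.X := (a ≫ q) * (b ≫ u)⁻¹
  haveI : IsMonHom d := WittGrp.isMonHom_of_comp_mul d
    (by simp only [d, MonObj.comp_mul, GrpObj.comp_inv, ← Category.assoc, MonObj.one_comp, mul_inv_cancel])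
    fun T x y => by
      simp only [d, MonObj.comp_mul, GrpObj.comp_inv, ← Category.assoc, MonObj.mul_comp _ _ a, MonObj.mul_comp _ _ b,
        MonObj.mul_comp _ _ q, MonObj.mul_comp _ _ u, _root_.mul_inv]
      ac_rfl
  obtain ⟨E, hE, e, he, hec, -, hker⟩ := AdjRep.exists_kernel d
  letI := hE
  haveI := he
  haveI := hec
  haveI := mono_of_isKernel hker
  haveI := isCommMonObj_of_mono e
  have hd : ∀ {T : Over (Spec (CommRingCat.of k))} (x : T ⟶ M.X), x ≫ d = 1 ↔ (x ≫ a) ≫ q = (x ≫ b) ≫ u := by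
    intro T x
    simp only [d, MonObj.comp_mul, GrpObj.comp_inv, ← Category.assoc, mul_inv_eq_one]
  let i₀ : WittGrp.W p 1 (Spec (CommRingCat.of k)) ⟶ M.X := lift i (1 : _ ⟶ W.X)
  have ia : i₀ ≫ a = i := lift_fst _ _
  have ib : i₀ ≫ b = 1 := lift_snd _ _
  obtain ⟨i', hi'⟩ := exists_pt_of_ker hker (a := i₀) ((hd _).2 (by
    rw [ia, ib, MonObj.one_comp]
    simpa using S.i_comp_π (𝟙 _)))
  haveI : IsMonHom (1 : WittGrp.W p 1 (Spec (CommRingCat.of k)) ⟶ W.X) := isMonHom_one _ _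
  haveI : IsMonHom i' := isMonHom_of_comp_mono i' e i₀ hi'
  let π' : E ⟶ W.X := e ≫ b
  haveI : IsMonHom π' := inferInstanceAs (IsMonHom (e ≫ b))
  let s₀ : W.X ⟶ M.X := lift (u ≫ S.s) (𝟙 W.X)
  have sa : s₀ ≫ a = u ≫ S.s := lift_fst _ _
  have sb : s₀ ≫ b = 𝟙 W.X := lift_snd _ _
  obtain ⟨s', hs'⟩ := exists_pt_of_ker hker (a := s₀) ((hd _).2 (by
    rw [sa, sb, Category.assoc, S.sect, Category.comp_id, Category.id_comp]))
  haveI := S.mono
  haveI : Mono i' := ⟨fun x y h => by
    rw [← cancel_mono i]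
    have h' := congrArg (· ≫ e ≫ a) h
    simpa [← ia, ← hi'] using h'⟩
  have hker' : AlgGrp.IsKernel i' π' := isKernel_of_points i' π' (by
    rw [show π' = e ≫ b from rfl, ← Category.assoc, hi', ib]) fun T x hx => by
      have h1 := (hd _).1 (comp_eq_one hker x)
      rw [Category.assoc x e b, show x ≫ e ≫ b = 1 from hx, MonObj.one_comp] at h1
      obtain ⟨z, hz⟩ := exists_pt_of_ker S.ker h1
      refine ⟨z, (cancel_mono e).1 ?_⟩
      rw [Category.assoc, hi']
      refine CartesianMonoidalCategory.hom_ext _ _ ?_ ?_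
      · rw [Category.assoc]
        show z ≫ i₀ ≫ a = _
        rw [ia, hz]
      · rw [Category.assoc]
        show z ≫ i₀ ≫ b = (x ≫ e) ≫ b
        rw [ib, MonObj.comp_one, Category.assoc, show x ≫ e ≫ b = 1 from hx]
  obtain ⟨Sₑ⟩ := Sect.nonempty_of_section s' (show s' ≫ π' = 𝟙 W.X by
    rw [show π' = e ≫ b from rfl, ← Category.assoc, hs', sb]) hker'
  let C : WittExt.Chart π' i' := ⟨Sₑ.s, Sₑ.sect, Sₑ.norm, Sₑ.ker⟩
  obtain ⟨φ₀, ⟨-, g, hg, -, hgπ⟩, -⟩ := WittExt.pushout_class C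
  haveI := hg
  refine ⟨g ≫ e ≫ a, inferInstance, ?_⟩
  have h1 := (hd _).1 (comp_eq_one hker g)
  rw [Category.assoc g e b, show g ≫ e ≫ b = _ from hgπ] at h1
  simpa using h1

/-- The lift of a homomorphism out of a product, with the projection one step down. -/
theorem exists_lift_PW {G Q : UG p k} {q : G.X ⟶ Q.X} [IsMonHom q]
    {i : WittGrp.W p 1 (Spec (CommRingCat.of k)) ⟶ G.X} [IsMonHom i] (S : Sect q i) :
    ∀ l : List ℕ, (∀ n ∈ l, 1 ≤ n) → ∀ Φ : (PW p k l).X ⟶ Q.X, IsMonHom Φ →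
      ∃ (g : (PW p k (l.map (· + 1))).X ⟶ G.X) (ρ : (PW p k (l.map (· + 1))).X ⟶ (PW p k l).X)
        (σ : (PW p k l).X ⟶ (PW p k (l.map (· + 1))).X) (K : UG p k) (κ : K.X ⟶ (PW p k (l.map (· + 1))).X),
        IsMonHom g ∧ IsMonHom ρ ∧ IsMonHom κ ∧ g ≫ q = ρ ≫ Φ ∧ σ ≫ ρ = 𝟙 _ ∧ AlgGrp.IsKernel κ ρ
  | [], _, Φ, hΦ => by
    haveI := hΦ
    refine ⟨1, 𝟙 _, 𝟙 _, PW p k (([] : List ℕ).map (· + 1)), 𝟙 _, isMonHom_one _ _, inferInstance, inferInstance, ?_, Category.id_comp _,
      isKernel_of_points _ _ (toUnit_unique _ _) fun T a _ => ⟨a, Category.comp_id a⟩⟩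
    rw [MonObj.one_comp, Category.id_comp]
    calc (1 : (PW p k []).X ⟶ Q.X) = (1 : (PW p k []).X ⟶ (PW p k []).X) ≫ Φ := (MonObj.one_comp Φ).symm
      _ = Φ := by rw [PW.hom_ext_nil (1 : (PW p k []).X ⟶ (PW p k []).X) (𝟙 _)]; exact Category.id_comp _
  | n :: l, hpos, Φ, hΦ => by
    haveI := hΦ
    haveI := IsAlgClosed.instInfinite (K := k)
    haveI := isMonHom_one (WittGrp.W p n (Spec (CommRingCat.of k))) (PW p k l).X
    haveI := isMonHom_one (PW p k l).X (WittGrp.W p n (Spec (CommRingCat.of k)))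
    let ι₁ : WittGrp.W p n (Spec (CommRingCat.of k)) ⟶ (PW p k (n :: l)).X := PW.mk (𝟙 _) 1
    let ι₂ : (PW p k l).X ⟶ (PW p k (n :: l)).X := PW.mk 1 (𝟙 _)
    obtain ⟨φ, hφ, eφ⟩ := exists_lift_hom S (hpos n List.mem_cons_self) (ι₁ ≫ Φ)
    obtain ⟨g, ρ, σ, K, κ, hg, hρ, hκ, eg, eσ, hker⟩ :=
      exists_lift_PW S l (fun m hm => hpos m (List.mem_cons_of_mem _ hm)) (ι₂ ≫ Φ) inferInstance
    haveI := hφ
    haveI := hg
    haveI := hρ
    haveI := hκ
    obtain ⟨P, hP⟩ := WittExt.exists_mor (p := p) (k := k) (WittHom.pad (n + 1) : TW p n k → TW p (n + 1) k) WittHom.isPoly_pad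
    have hPR : P ≫ WittGrp.R p (Spec (CommRingCat.of k)) (Nat.le_add_right n 1) = 𝟙 _ := WittHom.hom_ext fun v => by
      rw [act_comp, act_R, hP, WittHom.truncate_pad, act, Category.comp_id, val_pt]
    obtain ⟨-, -, -, hVR⟩ := Groth.Agent.S12170.result p (Spec (CommRingCat.of k)) n 1
    let h' : (PW p k ((n + 1) :: l.map (· + 1))).X ⟶ _ := PW.head (p := p) (k := k) (n + 1) (l.map (· + 1))
    let t' : (PW p k ((n + 1) :: l.map (· + 1))).X ⟶ _ := PW.tail (p := p) (k := k) (n + 1) (l.map (· + 1))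
    let V := WittGrp.V p (Spec (CommRingCat.of k)) (Nat.le_add_left 1 n)
    let R := WittGrp.R p (Spec (CommRingCat.of k)) (Nat.le_add_right n 1)
    haveI : IsMonHom (h' ≫ φ) := inferInstance
    have hgm : IsMonHom ((h' ≫ φ) * (t' ≫ g)) := WittGrp.isMonHom_of_comp_mul _
      (by simp only [MonObj.comp_mul, ← Category.assoc, MonObj.one_comp, _root_.mul_one])
      fun T x y => by
        simp only [MonObj.comp_mul, ← Category.assoc, MonObj.mul_comp _ _ h', MonObj.mul_comp _ _ t',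
          MonObj.mul_comp _ _ φ, MonObj.mul_comp _ _ g]
        ac_rfl
    let κ' : (UG.prod (UG.W p k 1) K).X ⟶ (PW p k ((n + 1) :: l.map (· + 1))).X :=
      PW.mk (fst _ _ ≫ V) (snd _ _ ≫ κ)
    haveI : IsMonHom (fst (UG.W p k 1).X K.X ≫ V) := inferInstance
    haveI : IsMonHom (snd (UG.W p k 1).X K.X ≫ κ) := inferInstance
    haveI : Mono κ' := ⟨fun x y h => by
      haveI := mono_of_isKernel hker
      haveI := mono_of_isKernel hVR
      refine CartesianMonoidalCategory.hom_ext _ _ ?_ ?_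
      · rw [← cancel_mono V]
        simpa [κ', h'] using congrArg (· ≫ h') h
      · rw [← cancel_mono κ]
        simpa [κ', t'] using congrArg (· ≫ t') h⟩
    refine ⟨(h' ≫ φ) * (t' ≫ g), PW.mk (h' ≫ R) (t' ≫ ρ), PW.mk (PW.head n l ≫ P) (PW.tail n l ≫ σ),
      UG.prod (UG.W p k 1) K, κ', hgm, PW.isMonHom_mk _ _, PW.isMonHom_mk _ _, ?_, ?_, ?_⟩
    · have hid : 𝟙 (PW p k (n :: l)).X = (PW.head n l ≫ ι₁) * (PW.tail n l ≫ ι₂) := by
        refine PW.hom_ext ?_ ?_ <;> simp [ι₁, ι₂, MonObj.mul_comp]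
      have hΦ' : Φ = (PW.head n l ≫ ι₁ ≫ Φ) * (PW.tail n l ≫ ι₂ ≫ Φ) := by
        rw [← Category.assoc, ← Category.assoc, ← MonObj.mul_comp, ← hid, Category.id_comp]
      conv_rhs => rw [hΦ']
      have eh : PW.mk (h' ≫ R) (t' ≫ ρ) ≫ PW.head n l ≫ ι₁ ≫ Φ = h' ≫ R ≫ ι₁ ≫ Φ := by
        rw [← Category.assoc, PW.mk_head, Category.assoc]
      have et : PW.mk (h' ≫ R) (t' ≫ ρ) ≫ PW.tail n l ≫ ι₂ ≫ Φ = t' ≫ ρ ≫ ι₂ ≫ Φ := by
        rw [← Category.assoc, PW.mk_tail, Category.assoc]
      refine Eq.trans ?_ (MonObj.comp_mul _ _ _).symm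
      refine (MonObj.mul_comp _ _ _).trans ?_
      rw [eh, et, Category.assoc, Category.assoc, eφ, eg]
    · refine PW.hom_ext ?_ ?_
      · rw [Category.assoc, PW.mk_head, ← Category.assoc, PW.mk_head, Category.assoc, hPR, Category.comp_id,
          Category.id_comp]
      · rw [Category.assoc, PW.mk_tail, ← Category.assoc, PW.mk_tail, Category.assoc, eσ, Category.comp_id,
          Category.id_comp]
    · refine isKernel_of_points _ _ (PW.hom_ext ?_ ?_) fun T x hx => ?_
      · rw [Category.assoc, PW.mk_head, MonObj.one_comp, ← Category.assoc, PW.mk_head]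
        exact comp_eq_one hVR _
      · rw [Category.assoc, PW.mk_tail, MonObj.one_comp, ← Category.assoc, PW.mk_tail]
        exact comp_eq_one hker _
      · have k1 : (x ≫ h') ≫ R = 1 := by
          simpa [MonObj.one_comp] using congrArg (· ≫ PW.head n l) hx
        have k2 : (x ≫ t') ≫ ρ = 1 := by
          simpa [MonObj.one_comp] using congrArg (· ≫ PW.tail n l) hx
        obtain ⟨z₁, hz₁⟩ := exists_pt_of_ker hVR k1
        obtain ⟨z₂, hz₂⟩ := exists_pt_of_ker hker k2
        refine ⟨lift (X := (UG.W p k 1).X) (Y := K.X) z₁ z₂, PW.hom_ext ?_ ?_⟩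
        · rw [Category.assoc, PW.mk_head, ← Category.assoc, lift_fst]
          exact hz₁
        · rw [Category.assoc, PW.mk_tail, ← Category.assoc, lift_snd]
          exact hz₂

/-- Every unipotent group is a quotient of a product of Witt groups by a connected subgroup. -/
theorem exists_cover (G : UG p k) :
    ∃ (l : List ℕ) (Φ : (PW p k l).X ⟶ G.X) (N : UG p k) (j : N.X ⟶ (PW p k l).X),
      (∀ n ∈ l, 1 ≤ n) ∧ IsMonHom Φ ∧ Surjective Φ.left ∧ IsMonHom j ∧ IsClosedImmersion j.left ∧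
        AlgGrp.IsKernel j Φ := by
  induction hd : G.dm using Nat.strong_induction_on generalizing G with
  | _ d ih =>
    subst hd
    rcases Nat.eq_zero_or_pos G.dm with h0 | h0
    · haveI : IsMonHom (1 : (PW p k []).X ⟶ G.X) := isMonHom_one _ _
      haveI : LocallyOfFiniteType (PW p k []).X.hom := inferInstance
      exact ⟨[], 1, PW p k [], 𝟙 _, by simp, inferInstance, surjective_of_dm_zero _ h0, inferInstance,
        inferInstanceAs (IsClosedImmersion (𝟙 _)),
        isKernel_of_points _ _ (Category.id_comp _) fun T a _ => ⟨a, Category.comp_id a⟩⟩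
    · obtain ⟨Q, q, i, hq, hi, hic, hflat, hsurj, ⟨S⟩, hlt⟩ := exists_bottom_quotient G h0
      haveI := hq
      haveI := hi
      obtain ⟨l, Φ, N, jN, hpos, hΦ, hΦs, hjN, hjNc, hkN⟩ := ih Q.dm hlt Q rfl
      haveI := hΦ
      haveI := hΦs
      haveI := hjN
      haveI := mono_of_isKernel hkN
      obtain ⟨g, ρ, σ, K, κ, hg, hρ, hκ, eg, eσ, hkρ⟩ := exists_lift_PW S l hpos Φ hΦ
      haveI := hg
      haveI := hρ
      haveI := hκ
      let P' : UG p k := PW p k (1 :: l.map (· + 1))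
      let h' : P'.X ⟶ WittGrp.W p 1 (Spec (CommRingCat.of k)) := PW.head 1 (l.map (· + 1))
      let t' : P'.X ⟶ (PW p k (l.map (· + 1))).X := PW.tail 1 (l.map (· + 1))
      haveI : IsMonHom h' := PW.isMonHom_head _ _
      haveI : IsMonHom t' := PW.isMonHom_tail _ _
      let Φ' : P'.X ⟶ G.X := (h' ≫ i) * (t' ≫ g)
      haveI hΦ' : IsMonHom Φ' := WittGrp.isMonHom_of_comp_mul _
        (by simp only [Φ', MonObj.comp_mul, ← Category.assoc, MonObj.one_comp, _root_.mul_one])
        fun T x y => by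
          simp only [Φ', MonObj.comp_mul, ← Category.assoc, MonObj.mul_comp _ _ h', MonObj.mul_comp _ _ t',
            MonObj.mul_comp _ _ i, MonObj.mul_comp _ _ g]
          ac_rfl
      -- the preimage of `N`
      obtain ⟨E, hE, e, he, hec, -, hkE⟩ := AdjRep.exists_kernel (ρ ≫ Φ)
      letI := hE
      haveI := he
      haveI := hec
      haveI := mono_of_isKernel hkE
      haveI := isCommMonObj_of_mono e
      obtain ⟨πE, hπE⟩ := exists_pt_of_ker hkN (a := e ≫ ρ) (by
        rw [Category.assoc, hkE.w, Hom.one_def])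
      haveI : IsMonHom πE := isMonHom_of_comp_mono πE jN (e ≫ ρ) hπE
      obtain ⟨κE, hκE⟩ := exists_pt_of_ker hkE (a := κ) (by
        rw [← Category.assoc, show κ ≫ ρ = 1 by simpa using comp_eq_one hkρ (𝟙 _), MonObj.one_comp])
      haveI : IsMonHom κE := isMonHom_of_comp_mono κE e κ hκE
      haveI : Mono κE := by
        haveI : Mono (κE ≫ e) := by rw [hκE]; exact mono_of_isKernel hkρ
        exact mono_of_mono κE e
      obtain ⟨sE, hsE⟩ := exists_pt_of_ker hkE (a := jN ≫ σ) (by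
        rw [Category.assoc, ← Category.assoc σ, eσ, Category.id_comp, hkN.w, Hom.one_def])
      have hkπ : AlgGrp.IsKernel κE πE := isKernel_of_points κE πE (by
        rw [← cancel_mono jN, Category.assoc, hπE, ← Category.assoc, hκE, MonObj.one_comp]
        simpa using comp_eq_one hkρ (𝟙 _)) fun T x hx => by
          have h1 : (x ≫ e) ≫ ρ = 1 := by
            rw [Category.assoc, ← hπE, ← Category.assoc, hx, MonObj.one_comp]
          obtain ⟨z, hz⟩ := exists_pt_of_ker hkρ h1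
          exact ⟨z, (cancel_mono e).1 (by rw [Category.assoc, hκE, hz])⟩
      obtain ⟨SE⟩ := Sect.nonempty_of_section sE (show sE ≫ πE = 𝟙 _ by
        rw [← cancel_mono jN, Category.assoc, hπE, ← Category.assoc, hsE, Category.assoc, eσ, Category.comp_id,
          Category.id_comp]) hkπ
      let EU : UG p k := UG.ext K N E SE
      have hgq : ∀ {T : Over (Spec (CommRingCat.of k))} (x : T ⟶ (PW p k (l.map (· + 1))).X),
          (x ≫ g) ≫ q = (x ≫ ρ) ≫ Φ := fun x => by rw [Category.assoc, eg, Category.assoc]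
      obtain ⟨a, ha⟩ := exists_pt_of_ker S.ker (a := (e ≫ g)⁻¹) (by
        rw [GrpObj.inv_comp, hgq, show (e ≫ ρ) ≫ Φ = 1 by rw [Category.assoc, hkE.w, Hom.one_def], inv_one])
      haveI := S.mono
      haveI : IsMonHom (e ≫ g)⁻¹ := WittGrp.isMonHom_of_comp_mul _
        (by rw [GrpObj.comp_inv, MonObj.one_comp, inv_one])
        fun T x y => by rw [GrpObj.comp_inv, GrpObj.comp_inv, GrpObj.comp_inv, MonObj.mul_comp, _root_.mul_inv]
      haveI : IsMonHom a := isMonHom_of_comp_mono a i _ ha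
      let e' : E ⟶ P'.X := PW.mk a e
      haveI : IsMonHom e' := PW.isMonHom_mk a e
      haveI : Mono e' := by
        haveI : Mono (e' ≫ t') := by rw [show e' ≫ t' = e from PW.mk_tail _ _]; infer_instance
        exact mono_of_mono e' t'
      have heh : e' ≫ h' = a := PW.mk_head _ _
      have het : e' ≫ t' = e := PW.mk_tail _ _
      have hk' : AlgGrp.IsKernel e' Φ' := isKernel_of_points e' Φ' (by
        simp only [Φ', MonObj.comp_mul, ← Category.assoc, heh, het, ha, inv_mul_cancel]) fun T x hx => by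
          have h1 : ((x ≫ h') ≫ i) * ((x ≫ t') ≫ g) = 1 := by
            simpa only [Φ', MonObj.comp_mul, ← Category.assoc] using hx
          have h2 : (x ≫ t') ≫ ρ ≫ Φ = 1 := by
            have := congrArg (· ≫ q) h1
            simp only [MonObj.mul_comp, S.i_comp_π, _root_.one_mul, MonObj.one_comp, hgq] at this
            rwa [← Category.assoc]
          obtain ⟨z, hz⟩ := exists_pt_of_ker hkE h2
          refine ⟨z, PW.hom_ext ?_ ?_⟩
          · show (z ≫ e') ≫ h' = x ≫ h'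
            rw [Category.assoc, heh, ← cancel_mono i, Category.assoc, ha, GrpObj.comp_inv, ← Category.assoc, hz]
            exact (mul_eq_one_iff_eq_inv.1 h1).symm
          · show (z ≫ e') ≫ t' = x ≫ t'
            rw [Category.assoc, het, hz]
      haveI : Smooth EU.X.hom := EU.smooth
      haveI : IsAffine EU.X.left := EU.affine
      haveI : LocallyOfFiniteType EU.X.hom := inferInstance
      haveI : IsAffineHom EU.X.hom := isAffineHom_of_isAffine EU.X.hom
      haveI : QuasiCompact EU.X.hom := inferInstance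
      haveI := hflat
      haveI := hsurj
      refine ⟨1 :: l.map (· + 1), Φ', EU, e', ?_, hΦ', surjective_of_pt Φ' fun b => ?_, inferInstance,
        isClosedImmersion_of_mono_hom (G := EU.X) (H := P'.X) e', hk'⟩
      · intro n hn
        rcases List.mem_cons.1 hn with rfl | hn
        · exact le_rfl
        · obtain ⟨m, -, rfl⟩ := List.mem_map.1 hn
          omega
      · obtain ⟨v, hv⟩ := exists_pt_lift Φ (b ≫ q)
        obtain ⟨c, hc⟩ := exists_pt_of_ker S.ker (a := b * ((v ≫ σ) ≫ g)⁻¹) (by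
          rw [MonObj.mul_comp, GrpObj.inv_comp, hgq, Category.assoc v σ ρ, eσ, Category.comp_id, hv, mul_inv_cancel])
        refine ⟨PW.mk c (v ≫ σ), ?_⟩
        simp only [Φ', MonObj.comp_mul, ← Category.assoc]
        erw [PW.mk_head, PW.mk_tail]
        rw [hc, inv_mul_cancel_right]

end Groth.Agent.WittUnip
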