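import Groth.Agent.WittUnip.Basic

/-!
# Witt groups, products and canonical products of Witt groups
-/

set_option autoImplicit false
set_option linter.style.haveILetI false
set_option linter.unusedSectionVars false

universe u

open CategoryTheory CategoryTheory.Limits MonoidalCategory CartesianMonoidalCategory MonObj GrpObj
open AlgebraicGeometry TopologicalSpace

noncomputable section

namespace Groth.Agent.WittUnip

variable {p : ℕ} [Fact p.Prime] {k : Type u} [Field k] [IsAlgClosed k]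

local notation "Sk" => Spec (CommRingCat.of k)

/-- A group from its properties. -/
@[reducible] def UG.of (G : Over (Spec (CommRingCat.of k))) [GrpObj G] [IsCommMonObj G] [Smooth G.hom]
    [ConnectedSpace ↥G.left] [IsAffine G.left] (h : ∃ N : ℕ, (𝟙 G) ^ (p ^ N) = 1) : UG p k :=
  { X := G, killed := h }

theorem exists_ug_of_noSubtorus [CharP k p] (G : Over (Spec (CommRingCat.of k))) [GrpObj G] [IsCommMonObj G] [Smooth G.hom]
    [ConnectedSpace ↥G.left] [IsAffine G.left] (hG : Red.HasNoSubtorus k G) : ∃ N : ℕ, (𝟙 G) ^ (p ^ N) = 1 := by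
  obtain ⟨n, hn⟩ := exists_topologicalKrullDim (X := G)
  exact ⟨n, pow_p_pow_dim p G hG n hn⟩

variable [CharP k p]

theorem W_killed (n : ℕ) : (𝟙 (WittGrp.W p n (Spec (CommRingCat.of k)))) ^ (p ^ n) = 1 := by
  apply WittGrp.pts_injective p (WittGrp.W p n (Spec (CommRingCat.of k)))
  show WittGrp.pts p _ (Additive.ofMul (_ ^ p ^ n)) = WittGrp.pts p _ (Additive.ofMul 1)
  rw [ofMul_pow, map_nsmul, WittGrp.pts_one, nsmul_eq_mul]
  let φ : CommRingCat.of k ⟶ Γ((WittGrp.W p n (Spec (CommRingCat.of k))).left, ⊤) :=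
    (Scheme.ΓSpecIso (CommRingCat.of k)).inv ≫ (WittGrp.W p n (Spec (CommRingCat.of k))).hom.appTop
  let f : ZMod p →+* Γ((WittGrp.W p n (Spec (CommRingCat.of k))).left, ⊤) := φ.hom.comp (ZMod.castHom dvd_rfl k)
  haveI := TruncatedWittVector.charP_zmod p n
  rw [← map_natCast (WittGrp.truncMap p n f) (p ^ n), CharP.cast_eq_zero, map_zero, zero_mul]

/-- The Witt group. -/
@[reducible] def UG.W (p : ℕ) [Fact p.Prime] (k : Type u) [Field k] [IsAlgClosed k] [CharP k p] (n : ℕ) : UG p k :=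
  haveI := (Groth.Agent.S12182.result p k n).1
  haveI := (Groth.Agent.S12182.result p k n).2.1
  haveI := WittHom.isAffine_W (p := p) (k := k) n
  { X := WittGrp.W p n (Spec (CommRingCat.of k)), killed := ⟨n, W_killed n⟩ }

/-- The trivial group. -/
@[reducible] def UG.unit (p : ℕ) [Fact p.Prime] (k : Type u) [Field k] [IsAlgClosed k] : UG p k :=
  haveI : Smooth (𝟙_ (Over (Spec (CommRingCat.of k)))).hom := inferInstanceAs (Smooth (𝟙 (Spec (CommRingCat.of k))))
  haveI : ConnectedSpace ↥(𝟙_ (Over (Spec (CommRingCat.of k)))).left :=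
    inferInstanceAs (ConnectedSpace ↥(Spec (CommRingCat.of k)))
  haveI : IsAffine (𝟙_ (Over (Spec (CommRingCat.of k)))).left := inferInstanceAs (IsAffine (Spec (CommRingCat.of k)))
  { X := 𝟙_ (Over (Spec (CommRingCat.of k))), killed := ⟨0, toUnit_unique _ _⟩ }

instance instGrpTensor (G H : UG p k) : GrpObj (G.X ⊗ H.X) := inferInstance

/-- The product of two groups. -/
@[reducible] def UG.prod (G H : UG p k) : UG p k :=
  haveI : Smooth (G.X ⊗ H.X).hom := by
    show Smooth (pullback.fst G.X.hom H.X.hom ≫ G.X.hom)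
    infer_instance
  haveI : IsAffine (G.X ⊗ H.X).left := inferInstanceAs (IsAffine (pullback G.X.hom H.X.hom))
  haveI : GeometricallyIrreducible G.X.hom := GrpField.geometricallyIrreducible_of_connected G.X
  haveI : ConnectedSpace ↥(G.X ⊗ H.X).left := by
    haveI : IrreducibleSpace ↥(pullback G.X.hom H.X.hom) := inferInstance
    exact inferInstanceAs (ConnectedSpace ↥(pullback G.X.hom H.X.hom))
  haveI : IsCommMonObj (G.X ⊗ H.X) := isCommMonObj_iff_isMulCommutative _ |>.2 fun T => ⟨⟨fun a b =>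
    CartesianMonoidalCategory.hom_ext _ _ (by rw [MonObj.mul_comp, MonObj.mul_comp, mul_comm])
      (by rw [MonObj.mul_comp, MonObj.mul_comp, mul_comm])⟩⟩
  { X := G.X ⊗ H.X
    killed := by
      obtain ⟨a, ha⟩ := G.killed
      obtain ⟨b, hb⟩ := H.killed
      refine ⟨a + b, CartesianMonoidalCategory.hom_ext _ _ ?_ ?_⟩
      · rw [MonObj.pow_comp, MonObj.one_comp, Category.id_comp, pow_add, pow_mul]
        have h : (fst G.X H.X) ^ p ^ a = 1 := by
          have h' := congrArg (fst G.X H.X ≫ ·) ha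
          rwa [MonObj.comp_pow, Category.comp_id, MonObj.comp_one] at h'
        rw [h, one_pow]
      · rw [MonObj.pow_comp, MonObj.one_comp, Category.id_comp, pow_add, mul_comm, pow_mul]
        have h : (snd G.X H.X) ^ p ^ b = 1 := by
          have h' := congrArg (snd G.X H.X ≫ ·) hb
          rwa [MonObj.comp_pow, Category.comp_id, MonObj.comp_one] at h'
        rw [h, one_pow] }

/-- The product of a list of Witt groups. -/
def PW (p : ℕ) [Fact p.Prime] (k : Type u) [Field k] [IsAlgClosed k] [CharP k p] : List ℕ → UG p k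
  | [] => UG.unit p k
  | n :: l => UG.prod (UG.W p k n) (PW p k l)

/-- The head projection. -/
def PW.head (n : ℕ) (l : List ℕ) : (PW p k (n :: l)).X ⟶ WittGrp.W p n (Spec (CommRingCat.of k)) :=
  fst (UG.W p k n).X (PW p k l).X

/-- The tail projection. -/
def PW.tail (n : ℕ) (l : List ℕ) : (PW p k (n :: l)).X ⟶ (PW p k l).X :=
  snd (UG.W p k n).X (PW p k l).X

/-- A pair. -/
def PW.mk {n : ℕ} {l : List ℕ} {T : Over (Spec (CommRingCat.of k))} (a : T ⟶ WittGrp.W p n (Spec (CommRingCat.of k)))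
    (b : T ⟶ (PW p k l).X) : T ⟶ (PW p k (n :: l)).X :=
  lift (X := (UG.W p k n).X) (Y := (PW p k l).X) a b

instance PW.isMonHom_head (n : ℕ) (l : List ℕ) : IsMonHom (PW.head (p := p) (k := k) n l) :=
  inferInstanceAs (IsMonHom (fst (UG.W p k n).X (PW p k l).X))

instance PW.isMonHom_tail (n : ℕ) (l : List ℕ) : IsMonHom (PW.tail (p := p) (k := k) n l) :=
  inferInstanceAs (IsMonHom (snd (UG.W p k n).X (PW p k l).X))

@[simp] theorem PW.mk_head {n : ℕ} {l : List ℕ} {T : Over (Spec (CommRingCat.of k))}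
    (a : T ⟶ WittGrp.W p n (Spec (CommRingCat.of k))) (b : T ⟶ (PW p k l).X) :
    PW.mk a b ≫ PW.head n l = a := lift_fst _ _

@[simp] theorem PW.mk_tail {n : ℕ} {l : List ℕ} {T : Over (Spec (CommRingCat.of k))}
    (a : T ⟶ WittGrp.W p n (Spec (CommRingCat.of k))) (b : T ⟶ (PW p k l).X) :
    PW.mk a b ≫ PW.tail n l = b := lift_snd _ _

theorem PW.hom_ext {n : ℕ} {l : List ℕ} {T : Over (Spec (CommRingCat.of k))} {f g : T ⟶ (PW p k (n :: l)).X}
    (h1 : f ≫ PW.head n l = g ≫ PW.head n l) (h2 : f ≫ PW.tail n l = g ≫ PW.tail n l) : f = g :=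
  CartesianMonoidalCategory.hom_ext _ _ h1 h2

theorem PW.hom_ext_nil {T : Over (Spec (CommRingCat.of k))} (f g : T ⟶ (PW p k []).X) : f = g :=
  toUnit_unique _ _

instance PW.isMonHom_mk {n : ℕ} {l : List ℕ} {T : Over (Spec (CommRingCat.of k))} [GrpObj T]
    (a : T ⟶ WittGrp.W p n (Spec (CommRingCat.of k))) (b : T ⟶ (PW p k l).X) [IsMonHom a] [IsMonHom b] :
    IsMonHom (PW.mk a b) := by
  refine WittGrp.isMonHom_of_comp_mul _ ?_ fun T' x y => PW.hom_ext ?_ ?_
  · exact PW.hom_ext (by rw [Category.assoc, mk_head, MonObj.one_comp, MonObj.one_comp])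
      (by rw [Category.assoc, mk_tail, MonObj.one_comp, MonObj.one_comp])
  · simp only [MonObj.mul_comp, Category.assoc, mk_head]
  · simp only [MonObj.mul_comp, Category.assoc, mk_tail]

/-- The projections. -/
def PW.proj : ∀ (l : List ℕ) (j : Fin l.length), (PW p k l).X ⟶ WittGrp.W p (l.get j) (Spec (CommRingCat.of k))
  | [], j => j.elim0
  | n :: l, ⟨0, _⟩ => PW.head n l
  | n :: l, ⟨j + 1, h⟩ => PW.tail n l ≫ PW.proj l ⟨j, Nat.lt_of_succ_lt_succ h⟩

instance PW.isMonHom_proj : ∀ (l : List ℕ) (j : Fin l.length), IsMonHom (PW.proj (p := p) (k := k) l j)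
  | [], j => j.elim0
  | n :: l, ⟨0, _⟩ => PW.isMonHom_head n l
  | n :: l, ⟨j + 1, h⟩ => by
    haveI := PW.isMonHom_proj l ⟨j, Nat.lt_of_succ_lt_succ h⟩
    exact inferInstanceAs (IsMonHom (PW.tail n l ≫ PW.proj l ⟨j, Nat.lt_of_succ_lt_succ h⟩))

theorem PW.proj_ext : ∀ {l : List ℕ} {T : Over (Spec (CommRingCat.of k))} {f g : T ⟶ (PW p k l).X},
    (∀ j, f ≫ PW.proj l j = g ≫ PW.proj l j) → f = g
  | [], _, f, g, _ => PW.hom_ext_nil f g
  | n :: l, _, f, g, h => PW.hom_ext (h ⟨0, Nat.succ_pos _⟩) (PW.proj_ext fun j => by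
      rw [Category.assoc, Category.assoc]
      exact h ⟨j + 1, Nat.succ_lt_succ j.2⟩)

theorem PW.exists_lift : ∀ (l : List ℕ) {T : Over (Spec (CommRingCat.of k))}
    (f : ∀ j : Fin l.length, T ⟶ WittGrp.W p (l.get j) (Spec (CommRingCat.of k))),
    ∃ g : T ⟶ (PW p k l).X, ∀ j, g ≫ PW.proj l j = f j
  | [], T, _ => ⟨toUnit T, fun j => j.elim0⟩
  | n :: l, T, f => by
    obtain ⟨g, hg⟩ := PW.exists_lift l fun j => f ⟨j + 1, Nat.succ_lt_succ j.2⟩
    refine ⟨PW.mk (f ⟨0, Nat.succ_pos _⟩) g, ?_⟩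
    rintro ⟨_ | j, hj⟩
    · exact PW.mk_head _ _
    · show PW.mk _ g ≫ PW.tail n l ≫ PW.proj l ⟨j, Nat.lt_of_succ_lt_succ hj⟩ = _
      rw [← Category.assoc, PW.mk_tail]
      exact hg ⟨j, Nat.lt_of_succ_lt_succ hj⟩

theorem PW.isMonHom_of_proj {l : List ℕ} {T : Over (Spec (CommRingCat.of k))} [GrpObj T] (g : T ⟶ (PW p k l).X)
    (h : ∀ j, IsMonHom (g ≫ PW.proj l j)) : IsMonHom g := by
  refine WittGrp.isMonHom_of_comp_mul g (PW.proj_ext fun j => ?_) fun T' x y => PW.proj_ext fun j => ?_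
  · haveI := h j
    rw [Category.assoc, MonObj.one_comp, MonObj.one_comp]
  · haveI := h j
    simp only [MonObj.mul_comp, Category.assoc]

/-- The fan of the projections. -/
theorem PW.isLimit (l : List ℕ) : Nonempty (IsLimit (Fan.mk (PW p k l).X (PW.proj (p := p) (k := k) l))) := by
  refine ⟨Fan.IsLimit.mk _ (fun s => (PW.exists_lift l fun j => s.proj j).choose) (fun s j => ?_) fun s m hm => ?_⟩
  · exact (PW.exists_lift l fun j => s.proj j).choose_spec j
  · exact PW.proj_ext fun j => (hm j).trans ((PW.exists_lift l fun j => s.proj j).choose_spec j).symm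

/-- Any product of Witt groups is a canonical one. -/
theorem exists_iso_PW {r : ℕ} (nn : Fin r → ℕ) (P : Over (Spec (CommRingCat.of k))) [GrpObj P]
    (proj : ∀ j : Fin r, P ⟶ WittGrp.W p (nn j) (Spec (CommRingCat.of k))) [∀ j, IsMonHom (proj j)]
    (hP : IsLimit (Fan.mk P proj)) :
    ∃ e : P ≅ (PW p k (List.ofFn nn)).X, IsMonHom e.hom ∧ IsMonHom e.inv := by
  obtain ⟨r', hr'⟩ : ∃ l, l = List.ofFn nn := ⟨_, rfl⟩
  have hlen : r'.length = r := by simp [hr']
  have hget : ∀ j : Fin r'.length, r'.get j = nn (Fin.cast hlen j) := fun j => by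
    subst hr'
    simp only [List.get_eq_getElem, List.getElem_ofFn]
    rfl
  obtain ⟨f, hf⟩ := PW.exists_lift (p := p) (k := k) r' fun j =>
    proj (Fin.cast hlen j) ≫ eqToHom (by rw [hget j])
  have hcast : ∀ {a b : ℕ} (h : a = b), IsMonHom (eqToHom (congrArg (fun m => WittGrp.W p m (Spec (CommRingCat.of k))) h)) := by
    intro a b h
    subst h
    exact inferInstanceAs (IsMonHom (𝟙 _))
  haveI : IsMonHom f := PW.isMonHom_of_proj f fun j => by
    rw [hf j]
    haveI := hcast (hget j).symm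
    infer_instance
  let g : (PW p k r').X ⟶ P := Fan.IsLimit.lift hP fun j => PW.proj r' (Fin.cast hlen.symm j) ≫
    eqToHom (congrArg (fun m => WittGrp.W p m (Spec (CommRingCat.of k))) ((hget _).trans (by simp)))
  have hg : ∀ j, g ≫ proj j = PW.proj r' (Fin.cast hlen.symm j) ≫
      eqToHom (congrArg (fun m => WittGrp.W p m (Spec (CommRingCat.of k))) ((hget _).trans (by simp))) := fun j =>
    Fan.IsLimit.fac hP _ j
  have h1 : f ≫ g = 𝟙 P := Fan.IsLimit.hom_ext hP _ _ fun j => by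
    show (f ≫ g) ≫ proj j = 𝟙 P ≫ proj j
    rw [Category.assoc, hg, ← Category.assoc, hf, Category.assoc, eqToHom_trans, Category.id_comp]
    have : ∀ {i i' : Fin r} (h : i = i') (e : WittGrp.W p (nn i) (Spec (CommRingCat.of k)) =
        WittGrp.W p (nn i') (Spec (CommRingCat.of k))), proj i ≫ eqToHom e = proj i' := by
      rintro i i' rfl e
      simp
    exact this (by simp) _
  have h2 : g ≫ f = 𝟙 _ := PW.proj_ext fun j => by
    rw [Category.assoc, hf, ← Category.assoc, hg, Category.assoc, eqToHom_trans, Category.id_comp]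
    have : ∀ {i i' : Fin r'.length} (h : i = i') (e : WittGrp.W p (r'.get i) (Spec (CommRingCat.of k)) =
        WittGrp.W p (r'.get i') (Spec (CommRingCat.of k))), PW.proj r' i ≫ eqToHom e = PW.proj r' i' := by
      rintro i i' rfl e
      simp
    exact this (by simp) _
  subst hr'
  refine ⟨⟨f, g, h1, h2⟩, ‹IsMonHom f›, ?_⟩
  haveI : IsIso f := ⟨g, h1, h2⟩
  refine WittGrp.isMonHom_of_comp_mul g ?_ fun T x y => ?_
  · rw [← cancel_mono f, Category.assoc]
    show _ ≫ g ≫ f = _ ≫ f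
    rw [h2, Category.comp_id, MonObj.one_comp]
  · rw [← cancel_mono f, Category.assoc]
    show _ ≫ g ≫ f = _ ≫ f
    rw [h2, Category.comp_id, MonObj.mul_comp, Category.assoc, Category.assoc, h2, Category.comp_id,
      Category.comp_id]

end Groth.Agent.WittUnip
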