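import Groth.Agent.WittUnip.Period
import Groth.Agent.WittExt.Main
import Groth.Agent.AVDeg.Vanish
import Groth.Agent.TorusKilled.Basic
import Groth.Agent.GrpField.SurjSmooth
import Groth.Agent.GrpField.Kernel
import Groth.Agent.S12182

/-!
# Connected commutative unipotent groups, their rational points and dimensions
-/

set_option autoImplicit false
set_option linter.style.haveILetI false
set_option linter.unusedSectionVars false

universe u

open CategoryTheory CategoryTheory.Limits MonoidalCategory CartesianMonoidalCategory MonObj GrpObj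
open AlgebraicGeometry TopologicalSpace

noncomputable section

namespace Groth.Agent.WittUnip

/-- A smooth connected affine commutative group killed by a power of `p`. -/
structure UG (p : ℕ) (k : Type u) [Field k] where
  /-- The underlying object. -/
  X : Over (Spec (CommRingCat.of k))
  /-- The group structure. -/
  [grp : GrpObj X]
  [comm : IsCommMonObj X]
  [smooth : Smooth X.hom]
  [conn : ConnectedSpace ↥X.left]
  [affine : IsAffine X.left]
  killed : ∃ N : ℕ, (𝟙 X) ^ (p ^ N) = 1

attribute [instance] UG.grp UG.comm UG.smooth UG.conn UG.affine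

variable {k : Type u} [Field k]

local notation "Sk" => Spec (CommRingCat.of k)

instance {p : ℕ} (G : UG p k) : IsAffineHom G.X.hom := inferInstance

instance {p : ℕ} (G : UG p k) : CompactSpace ↥G.X.left := inferInstance

instance {p : ℕ} (G : UG p k) : IsReduced G.X.left := SmoothRed.isReduced_of_smooth_scheme G.X.hom

section points

variable [IsAlgClosed k]

/-- Morphisms out of reduced schemes are determined on rational points. -/
theorem hom_ext_pt {X Y : Over (Spec (CommRingCat.of k))} [IsReduced X.left] [LocallyOfFiniteType X.hom] [IsSeparated Y.hom]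
    [LocallyOfFiniteType Y.hom] {f g : X ⟶ Y}
    (h : ∀ a : 𝟙_ (Over (Spec (CommRingCat.of k))) ⟶ X, a ≫ f = a ≫ g) : f = g :=
  AVDeg.hom_ext_points h

instance {p : ℕ} (G : UG p k) : IrreducibleSpace ↥G.X.left :=
  GrpField.irreducibleSpace_of_nhds (GrpField.exists_irreducible_nhd G.X)

instance {p : ℕ} (G : UG p k) : IsIntegral G.X.left := isIntegral_of_irreducibleSpace_of_isReduced _

theorem isReduced_tensor {X Y : Over (Spec (CommRingCat.of k))} [Smooth X.hom] [Smooth Y.hom] :
    IsReduced (X ⊗ Y).left := by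
  haveI : Smooth (X ⊗ Y).hom := by
    show Smooth (pullback.fst X.hom Y.hom ≫ X.hom)
    infer_instance
  exact SmoothRed.isReduced_of_smooth_scheme (X ⊗ Y).hom

/-- Homomorphisms are recognised on rational points. -/
theorem isMonHom_of_pt {G H : Over (Spec (CommRingCat.of k))} [GrpObj G] [GrpObj H] [Smooth G.hom]
    [IsSeparated H.hom] [LocallyOfFiniteType H.hom] (f : G ⟶ H)
    (h : ∀ a b : 𝟙_ (Over (Spec (CommRingCat.of k))) ⟶ G, (a * b) ≫ f = (a ≫ f) * (b ≫ f)) : IsMonHom f := by
  have hμ : μ[G] ≫ f = (fst G G ≫ f) * (snd G G ≫ f) := by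
    haveI := isReduced_tensor (X := G) (Y := G)
    haveI : LocallyOfFiniteType (G ⊗ G).hom := by
      show LocallyOfFiniteType (pullback.fst G.hom G.hom ≫ G.hom)
      infer_instance
    refine hom_ext_pt fun a => ?_
    rw [MonObj.comp_mul, ← Category.assoc a (fst G G), ← Category.assoc a (snd G G), ← h, Hom.mul_def,
      lift_comp_fst_snd, Category.assoc]
  refine ⟨?_, ?_⟩
  · have h1 := h 1 1
    rw [_root_.one_mul] at h1
    rw [MonObj.one_eq_one, MonObj.one_eq_one]
    exact left_eq_mul.1 h1
  · rw [hμ, Hom.mul_def, lift_fst_comp_snd_comp]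

theorem pt_mul_comp {G H : Over (Spec (CommRingCat.of k))} [GrpObj G] [GrpObj H] (f : G ⟶ H) [IsMonHom f]
    {T : Over (Spec (CommRingCat.of k))} (a b : T ⟶ G) : (a * b) ≫ f = (a ≫ f) * (b ≫ f) := MonObj.mul_comp a b f

/-- Surjectivity on rational points gives surjectivity. -/
theorem surjective_of_pt {G H : Over (Spec (CommRingCat.of k))} [LocallyOfFiniteType G.hom] [QuasiCompact G.hom]
    [LocallyOfFiniteType H.hom] [QuasiCompact H.hom] [IsSeparated H.hom] (f : G ⟶ H)
    (h : ∀ b : 𝟙_ (Over (Spec (CommRingCat.of k))) ⟶ H, ∃ a : 𝟙_ (Over (Spec (CommRingCat.of k))) ⟶ G, a ≫ f = b) :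
    Surjective f.left := by
  haveI : JacobsonSpace H.left := LocallyOfFiniteType.jacobsonSpace H.hom
  haveI : LocallyOfFiniteType f.left := by
    haveI : LocallyOfFiniteType (f.left ≫ H.hom) := by rw [Over.w]; infer_instance
    exact locallyOfFiniteType_of_comp f.left H.hom
  haveI : IsLocallyNoetherian H.left := LocallyOfFiniteType.isLocallyNoetherian H.hom
  haveI : CompactSpace ↥H.left := QuasiCompact.compactSpace_of_compactSpace H.hom
  haveI : QuasiCompact f.left := by
    haveI : QuasiCompact (f.left ≫ H.hom) := by rw [Over.w]; infer_instance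
    exact QuasiCompact.of_comp f.left H.hom
  refine MonoFactor.surjective_of_closedPoints f.left fun x hx => ?_
  let b : 𝟙_ (Over (Spec (CommRingCat.of k))) ⟶ H :=
    Over.homMk ((pointEquivClosedPoint H.hom).symm ⟨x, hx⟩).1 ((pointEquivClosedPoint H.hom).symm ⟨x, hx⟩).2
  obtain ⟨a, ha⟩ := h b
  refine ⟨a.left (IsLocalRing.closedPoint k), ?_⟩
  have h1 := congrArg (fun t : 𝟙_ (Over (Spec (CommRingCat.of k))) ⟶ H => t.left (IsLocalRing.closedPoint k)) ha
  simp only [Over.comp_left, Scheme.Hom.comp_apply] at h1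
  rw [h1]
  exact congrArg Subtype.val ((pointEquivClosedPoint H.hom).apply_symm_apply ⟨x, hx⟩)

/-- Surjections lift rational points. -/
theorem exists_pt_lift {G H : Over (Spec (CommRingCat.of k))} [LocallyOfFiniteType G.hom] (f : G ⟶ H) [Surjective f.left]
    (b : 𝟙_ (Over (Spec (CommRingCat.of k))) ⟶ H) : ∃ a : 𝟙_ (Over (Spec (CommRingCat.of k))) ⟶ G, a ≫ f = b :=
  WittHom.exists_lift_point f b

/-- A surjective homomorphism of unipotent groups is flat. -/
theorem flat_of_surjective {p : ℕ} {G H : UG p k} (f : G.X ⟶ H.X) [IsMonHom f] [Surjective f.left] :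
    Flat f.left := by
  haveI : QuasiCompact f.left := by
    haveI : QuasiCompact (f.left ≫ H.X.hom) := by rw [Over.w]; infer_instance
    exact QuasiCompact.of_comp f.left H.X.hom
  exact GrpField.flat_of_surjective_reduced f

/-- The unipotent groups have no subtori. -/
theorem UG.hasNoSubtorus {p : ℕ} [Fact p.Prime] (G : UG p k) : Red.HasNoSubtorus k G.X := by
  obtain ⟨N, hN⟩ := G.killed
  intro T _ j _ _ hT
  haveI : Infinite k := IsAlgClosed.instInfinite
  refine TorusKilled.isTrivial T hT (pow_pos (Fact.out (p := p.Prime)).pos N) ?_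
  rw [← cancel_mono j, MonObj.pow_comp, MonObj.one_comp, Category.id_comp]
  calc j ^ p ^ N = j ≫ (𝟙 G.X) ^ p ^ N := by rw [MonObj.comp_pow, Category.comp_id]
    _ = 1 := by rw [hN, MonObj.comp_one]

end points

section dim

theorem exists_topologicalKrullDim {X : Over (Spec (CommRingCat.of k))} [LocallyOfFiniteType X.hom]
    [IsAffine X.left] [Nonempty ↥X.left] : ∃ n : ℕ, topologicalKrullDim ↥X.left = n := by
  obtain ⟨φ, hφ⟩ := Spec.map_surjective (X.left.isoSpec.inv ≫ X.hom)
  letI : Algebra k Γ(X.left, ⊤) := φ.hom.toAlgebra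
  haveI : Algebra.FiniteType k Γ(X.left, ⊤) := by
    have h0 : LocallyOfFiniteType (Spec.map φ) := by rw [hφ]; infer_instance
    exact (HasRingHomProperty.Spec_iff (P := @LocallyOfFiniteType)).1 h0
  haveI : Nonempty ↥(Spec Γ(X.left, ⊤)) := ⟨X.left.isoSpec.hom (Classical.arbitrary _)⟩
  haveI : Nontrivial Γ(X.left, ⊤) := PrimeSpectrum.nonempty_iff_nontrivial.1 ‹_›
  obtain ⟨m, f, hf⟩ := Algebra.FiniteType.iff_quotient_mvPolynomial''.1 ‹Algebra.FiniteType k Γ(X.left, ⊤)›
  have h1 : ringKrullDim Γ(X.left, ⊤) ≤ (m : WithBot ℕ∞) :=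
    (ringKrullDim_le_of_surjective (f : MvPolynomial (Fin m) k →+* Γ(X.left, ⊤)) hf).trans (by simp)
  have h0 : 0 ≤ ringKrullDim Γ(X.left, ⊤) := ringKrullDim_nonneg_of_nontrivial
  have e : topologicalKrullDim ↥X.left = ringKrullDim Γ(X.left, ⊤) := by
    rw [← PrimeSpectrum.topologicalKrullDim_eq_ringKrullDim]
    exact IsHomeomorph.topologicalKrullDim_eq _ X.left.isoSpec.hom.homeomorph.isHomeomorph
  rw [e]
  generalize ringKrullDim Γ(X.left, ⊤) = d at h0 h1
  induction d using WithBot.recBotCoe with
  | bot => exact absurd h0 (by simp)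
  | coe d =>
    induction d using ENat.recTopCoe with
    | top => exact absurd h1 (by
        rw [show ((m : ℕ) : WithBot ℕ∞) = ((m : ℕ∞) : WithBot ℕ∞) from rfl, WithBot.coe_le_coe, top_le_iff]
        exact ENat.natCast_ne_top m)
    | coe d => exact ⟨d, rfl⟩

variable {p : ℕ} (G : UG p k)

/-- The dimension. -/
def UG.dm : ℕ := (exists_topologicalKrullDim (X := G.X)).choose

theorem UG.topologicalKrullDim_eq : topologicalKrullDim ↥G.X.left = G.dm :=
  (exists_topologicalKrullDim (X := G.X)).choose_spec

theorem dm_congr {H : UG p k} (e : ↥G.X.left ≃ₜ ↥H.X.left) : G.dm = H.dm := by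
  have h := IsHomeomorph.topologicalKrullDim_eq _ e.isHomeomorph
  rw [G.topologicalKrullDim_eq, H.topologicalKrullDim_eq] at h
  exact_mod_cast h

/-- A proper closed subspace of an irreducible space has smaller dimension. -/
theorem topologicalKrullDim_succ_le {X Y : Type u} [TopologicalSpace X] [TopologicalSpace Y]
    [IrreducibleSpace Y] {f : X → Y} (hf : Topology.IsClosedEmbedding f) (hne : Set.range f ≠ Set.univ)
    {n : ℕ} (hn : topologicalKrullDim X = n) : ((n + 1 : ℕ) : WithBot ℕ∞) ≤ topologicalKrullDim Y := by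
  let top : IrreducibleCloseds Y := ⟨Set.univ, IrreducibleSpace.isIrreducible_univ Y, isClosed_univ⟩
  let m : IrreducibleCloseds X → IrreducibleCloseds Y := IrreducibleCloseds.map f hf.continuous
  have hm : StrictMono m := IrreducibleCloseds.map_strictMono_of_isInducing hf.isInducing
  obtain ⟨l, hl⟩ := Order.le_krullDim_iff.1 (hn.ge : (n : WithBot ℕ∞) ≤ Order.krullDim (IrreducibleCloseds X))
  have hlt : (l.map m hm).last < top := by
    refine lt_of_le_of_ne (fun y _ => Set.mem_univ y) fun h => hne (Set.eq_univ_of_forall fun y => ?_)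
    have hy : y ∈ ((m l.last : IrreducibleCloseds Y) : Set Y) := by
      rw [show m l.last = top from (LTSeries.last_map l m hm).symm.trans h]
      exact Set.mem_univ y
    exact hf.isClosed_range.closure_subset_iff.2 (Set.image_subset_range _ _) hy
  refine Order.le_krullDim_iff.2 ⟨(l.map m hm).snoc top hlt, ?_⟩
  simp [hl]

theorem dm_lt {H : UG p k} [IsAlgClosed k] (j : H.X ⟶ G.X) [IsClosedImmersion j.left]
    (hne : ¬ Surjective j.left) : H.dm < G.dm := by
  have h := topologicalKrullDim_succ_le j.left.isClosedEmbedding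
    (fun e => hne ⟨Set.range_eq_univ.1 e⟩) H.topologicalKrullDim_eq
  rw [G.topologicalKrullDim_eq] at h
  exact_mod_cast h

end dim

end Groth.Agent.WittUnip
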