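import Groth.Agent.WittUnip.Coord
import Groth.Agent.UnipConil.Basic

/-!
# Coordinate rings of groups killed by a power of `p` are conilpotent
-/

set_option autoImplicit false
set_option linter.style.haveILetI false
set_option linter.unusedSectionVars false

universe u

open TensorProduct Coalgebra WithConv
open Groth.Agent.Comod Groth.Agent.MilnorMoore

noncomputable section

namespace Groth.Agent.WittUnip

variable (k : Type u) [Field k] [IsAlgClosed k] (A : Type u) [CommRing A] [IsDomain A] [HopfAlgebra k A]
  [Coalgebra.IsCocomm k A]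

theorem isNilpotent_ker_augQ (C : SubC k A) (hgl : ∀ g : A, IsGroupLikeElem k g → g = 1) :
    IsNilpotent (RingHom.ker (augQ C) : Ideal (DQ C)) := by
  have hχ : ∀ χ : DQ C →ₐ[k] k, χ = augQ C := by
    intro χ
    have h1 : chiElem k A C χ = chiElem k A C (augQ C) :=
      (hgl _ (isGroupLikeElem_chiElem k A C χ)).trans (hgl _ (isGroupLikeElem_chiElem k A C _)).symm
    have hb : ∀ i, χ (bar C i) = augQ C (bar C i) := by
      intro i
      have h2 : ∑ i, χ (bar C i) • Module.finBasis k C.D i = ∑ i, augQ C (bar C i) • Module.finBasis k C.D i :=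
        Subtype.ext (by simpa [chiElem] using h1)
      have h3 := congrArg (fun v => (Module.finBasis k C.D).repr v i) h2
      simpa [Finsupp.single_apply] using h3
    refine AlgHom.ext fun q => ?_
    have hq : q = ∑ i, ev C q (Module.finBasis k C.D i) • bar C i := by
      apply ev_injective C
      refine (Module.finBasis k C.D).ext fun j => ?_
      simp [ev_bar, Finsupp.single_apply]
    rw [hq, map_sum, map_sum]
    exact Finset.sum_congr rfl fun i _ => by rw [map_smul, map_smul, hb]
  obtain ⟨N, hN⟩ := IsArtinianRing.isNilpotent_jacobson_bot (R := DQ C)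
  refine ⟨N, le_bot_iff.mp ((Ideal.pow_right_mono ?_ N).trans hN.le)⟩
  refine le_sInf fun M hM => ?_
  haveI := hM.2
  letI := Ideal.Quotient.field M
  haveI : Algebra.IsIntegral k (DQ C ⧸ M) := Algebra.IsIntegral.of_finite k _
  let e : k ≃ₐ[k] (DQ C ⧸ M) := AlgEquiv.ofBijective (Algebra.ofId k _) IsAlgClosed.algebraMap_bijective_of_isIntegral
  intro q hq
  have h := congrArg (fun χ : DQ C →ₐ[k] k => χ q) (hχ (e.symm.toAlgHom.comp (Ideal.Quotient.mkₐ k M)))
  simp only [RingHom.mem_ker.mp hq] at h
  exact Ideal.Quotient.eq_zero_iff_mem.1 (e.symm.injective (h.trans (map_zero e.symm).symm))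

/-- Without nontrivial group-like elements the coordinate ring is conilpotent. -/
theorem isConil_of_groupLike (hgl : ∀ g : A, IsGroupLikeElem k g → g = 1) : UnipConil.IsConil k A := by
  classical
  intro a
  obtain ⟨C, hC⟩ := MilnorMoore.exists_subC (k := k) a
  obtain ⟨N, hN⟩ := isNilpotent_ker_augQ k A C hgl
  suffices ∀ (n : ℕ) (d : C.D), (∀ q ∈ (RingHom.ker (augQ C) : Ideal (DQ C)) ^ (n + 1), ev C q d = 0) →
      (d : A) ∈ UnipConil.filt k A n from
    ⟨N, this N ⟨a, hC⟩ fun q hq => by
      have : q = 0 := by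
        have h := Ideal.pow_le_pow_right (Nat.le_succ N) hq
        rwa [hN] at h
      rw [this, map_zero, LinearMap.zero_apply]⟩
  intro n
  induction n with
  | zero =>
    intro d hd
    rw [UnipConil.filt, Submodule.mem_span_singleton]
    refine ⟨counit (R := k) (d : A), ?_⟩
    have h : d = counit (R := k) (d : A) • (⟨1, C.one_mem⟩ : C.D) := by
      refine (Module.forall_dual_apply_eq_zero_iff k (d - counit (R := k) (d : A) • (⟨1, C.one_mem⟩ : C.D))).1
        (fun φ => ?_) |> sub_eq_zero.1
      obtain ⟨f, hf⟩ := φ.exists_extend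
      let q : DQ C := mkQ' C (toConv f) - algebraMap k (DQ C) (f 1)
      have hq : q ∈ (RingHom.ker (augQ C) : Ideal (DQ C)) ^ (0 + 1) := by
        rw [zero_add, pow_one, RingHom.mem_ker, map_sub, AlgHom.commutes, augQ_eq, ev_mk]
        simp
      have h0 := hd q hq
      simp only [q, map_sub, LinearMap.sub_apply, Algebra.algebraMap_eq_smul_one, map_smul, LinearMap.smul_apply] at h0
      rw [ev_mk, show (1 : DQ C) = mkQ' C 1 from (map_one _).symm, ev_mk, WithConv.ofConv_toConv] at h0
      rw [map_sub, map_smul, ← hf, LinearMap.comp_apply, LinearMap.comp_apply, Submodule.subtype_apply,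
        Submodule.subtype_apply, smul_eq_mul, mul_comm]
      refine Eq.trans ?_ h0
      rw [smul_eq_mul]
      congr 2
    exact (congrArg Subtype.val h).symm
  | succ n ih =>
    intro d hd
    rw [UnipConil.mem_filt_succ]
    intro f g hf hg
    rw [UnipConil.pair_eq_cL]
    obtain ⟨-, hmem⟩ := (mem_range_map_iff _ _ _).mp (C.comul_mem d d.2)
    refine hg _ (ih ⟨_, hmem f⟩ fun q hq => ?_)
    obtain ⟨h, rfl⟩ := mkQ'_surjective C q
    have hf' : mkQ' C (toConv f) ∈ (RingHom.ker (augQ C) : Ideal (DQ C)) := by
      rw [RingHom.mem_ker, augQ_eq, ev_mk]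
      exact hf
    have h0 := hd (mkQ' C (toConv f) * mkQ' C h) (by rw [pow_succ']; exact Ideal.mul_mem_mul hf' hq)
    rw [← map_mul, ev_mk, conv_apply] at h0
    rw [ev_mk]
    exact (UnipConil.mul_contract f h.ofConv _).symm.trans h0

/-- The coordinate ring of a group killed by a power of `p` is conilpotent. -/
theorem isConil (p : ℕ) [Fact p.Prime] [CharP k p] [Algebra.FiniteType k A]
    (hN : ∃ N : ℕ, ∀ a, nI k A (p ^ N) a = algebraMap k A (counit (R := k) a)) : UnipConil.IsConil k A :=
  isConil_of_groupLike k A fun g hg => by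
    obtain ⟨N, hN⟩ := hN
    exact groupLike_eq_one hg hN

end Groth.Agent.WittUnip
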