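import Groth.Agent.WittUnip.Groups
import Groth.Agent.UnipMult.Pointed

/-!
# Rational points, functions and primitive elements
-/

set_option autoImplicit false
set_option linter.style.haveILetI false
set_option linter.unusedSectionVars false
set_option backward.isDefEq.respectTransparency.types false

universe u

open CategoryTheory CategoryTheory.Limits MonoidalCategory CartesianMonoidalCategory MonObj GrpObj
open AlgebraicGeometry TopologicalSpace WithConv TensorProduct
open Groth.Agent.WittHom Groth.Agent.WittSub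

noncomputable section

namespace Groth.Agent.WittUnip

variable {p : ℕ} [Fact p.Prime] {k : Type u} [Field k]

local notation "Sk" => Spec (CommRingCat.of k)

variable (k) in
/-- The spectrum of an algebra as an object over the field. -/
abbrev sp (A : Type u) [CommRing A] [Algebra k A] : Over (Spec (CommRingCat.of k)) :=
  (Spec (CommRingCat.of A)).asOver (Spec (CommRingCat.of k))

theorem sp_self_hom : (sp k k).hom = 𝟙 _ := by
  show Spec.map (CommRingCat.ofHom (algebraMap k k)) = 𝟙 _
  rw [Algebra.algebraMap_self, CommRingCat.ofHom_id]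
  exact Spec.map_id _

variable (k) in
/-- The base as the spectrum of the field. -/
def baseIso : 𝟙_ (Over (Spec (CommRingCat.of k))) ≅ sp k k :=
  Over.isoMk (Iso.refl _) (by rw [sp_self_hom]; rfl)

variable {A : Type u} [CommRing A] [HopfAlgebra k A] {G : Over (Spec (CommRingCat.of k))}
  (e : sp k A ≅ G)

/-- The rational point of a character. -/
def ptOf (χ : WithConv (A →ₐ[k] k)) : 𝟙_ (Over (Spec (CommRingCat.of k))) ⟶ G :=
  (baseIso k).hom ≫ Spec.mapMulEquiv (R := k) (S := A) (T := k) χ ≫ e.hom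

theorem ptOf_bijective : Function.Bijective (ptOf e) := by
  refine ⟨fun χ χ' h => ?_, fun x => ?_⟩
  · exact (Spec.mapMulEquiv (R := k) (S := A) (T := k)).injective
      ((cancel_mono e.hom).1 ((cancel_epi (baseIso k).hom).1 h))
  · refine ⟨(Spec.mapMulEquiv (R := k) (S := A) (T := k)).symm ((baseIso k).inv ≫ x ≫ e.inv), ?_⟩
    rw [ptOf, MulEquiv.apply_symm_apply]
    simp

theorem ptOf_mul [GrpObj G] [IsMonHom e.hom] (χ χ' : WithConv (A →ₐ[k] k)) :
    ptOf e (χ * χ') = ptOf e χ * ptOf e χ' := by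
  rw [ptOf, map_mul, MonObj.mul_comp, MonObj.comp_mul]
  rfl

theorem ptOf_one [GrpObj G] [IsMonHom e.hom] : ptOf e 1 = 1 := by
  rw [ptOf, map_one, MonObj.one_comp, MonObj.comp_one]

theorem ptOf_point (χ : WithConv (A →ₐ[k] k)) :
    (ptOf e χ).left (IsLocalRing.closedPoint k) =
      e.hom.left (⟨RingHom.ker χ.ofConv, RingHom.ker_isPrime _⟩ : PrimeSpectrum A) := by
  show e.hom.left ((Spec.map (CommRingCat.ofHom χ.ofConv.toRingHom)) (IsLocalRing.closedPoint k)) = _
  refine congrArg e.hom.left (PrimeSpectrum.ext ?_)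
  show Ideal.comap χ.ofConv.toRingHom (IsLocalRing.maximalIdeal k) = _
  rw [show IsLocalRing.maximalIdeal k = ⊥ from IsLocalRing.isField_iff_maximalIdeal_eq.1 (Field.toIsField k)]
  rfl

/-- The morphism to `W_n` with given components. -/
def fnMor {n : ℕ} (a : Fin n → A) : G ⟶ WittGrp.W p n (Spec (CommRingCat.of k)) :=
  e.inv ≫ ((WittGrp.pts p (sp k A)).symm
    (TruncatedWittVector.mk p fun i => (Scheme.ΓSpecIso (CommRingCat.of A)).inv (a i))).toMul

theorem val_ptOf_fnMor {n : ℕ} (a : Fin n → A) (χ : WithConv (A →ₐ[k] k)) :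
    val (ptOf e χ ≫ fnMor (p := p) e a) = TruncatedWittVector.mk p fun i => χ.ofConv (a i) := by
  let f : 𝟙_ (Over (Spec (CommRingCat.of k))) ⟶ sp k A :=
    (baseIso k).hom ≫ Spec.mapMulEquiv (R := k) (S := A) (T := k) χ
  have hf : f.left = Spec.map (CommRingCat.ofHom χ.ofConv.toRingHom) := Category.id_comp _
  have e1 : ptOf e χ ≫ fnMor (p := p) e a = f ≫ ((WittGrp.pts p (sp k A)).symm
      (TruncatedWittVector.mk p fun i => (Scheme.ΓSpecIso (CommRingCat.of A)).inv (a i))).toMul := by
    simp [f, ptOf, fnMor]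
  rw [e1]
  refine TruncatedWittVector.ext fun i => ?_
  rw [val, TruncatedWittVector.coeff_mk, WittGrp.coeff_truncMap, WittGrp.pts_comp, WittGrp.coeff_truncMap, ofMul_toMul,
    AddEquiv.apply_symm_apply, TruncatedWittVector.coeff_mk]
  show (f.left.appTop ≫ (Scheme.ΓSpecIso (CommRingCat.of k)).hom) ((Scheme.ΓSpecIso (CommRingCat.of A)).inv (a i)) = _
  rw [hf]
  erw [Scheme.ΓSpecIso_naturality]
  show χ.ofConv.toRingHom ((Scheme.ΓSpecIso (CommRingCat.of A)).hom ((Scheme.ΓSpecIso (CommRingCat.of A)).inv (a i))) = _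
  exact congrArg χ.ofConv ((Scheme.ΓSpecIso (CommRingCat.of A)).commRingCatIsoToRingEquiv.apply_symm_apply (a i))

/-- A primitive element is additive on characters. -/
theorem apply_mul_of_prim {a : A} (ha : Coalgebra.comul (R := k) a = a ⊗ₜ[k] (1 : A) + (1 : A) ⊗ₜ[k] a)
    (χ χ' : WithConv (A →ₐ[k] k)) : (χ * χ').ofConv a = χ.ofConv a + χ'.ofConv a := by
  show (χ * χ') a = _
  rw [AlgHom.convMul_apply, ha, map_add, Algebra.TensorProduct.lift_tmul, Algebra.TensorProduct.lift_tmul,
    map_one, map_one, _root_.mul_one, _root_.one_mul]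

variable [IsAlgClosed k] [CharP k p]

theorem one_coord_ext {v w : TruncatedWittVector p 1 k} (h : v.coeff 0 = w.coeff 0) : v = w :=
  TruncatedWittVector.ext fun i => by rwa [Fin.fin_one_eq_zero i]

/-- A primitive element gives a homomorphism to `W_1`. -/
theorem isMonHom_fnMor [GrpObj G] [IsMonHom e.hom] [Smooth G.hom] {a : A}
    (ha : Coalgebra.comul (R := k) a = a ⊗ₜ[k] (1 : A) + (1 : A) ⊗ₜ[k] a) :
    IsMonHom (fnMor (p := p) e fun _ : Fin 1 => a) := by
  haveI := (Groth.Agent.S12182.result p k 1).1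
  haveI := WittHom.isAffine_W (p := p) (k := k) 1
  refine isMonHom_of_pt _ fun x y => ?_
  obtain ⟨χ, rfl⟩ := (ptOf_bijective e).2 x
  obtain ⟨χ', rfl⟩ := (ptOf_bijective e).2 y
  rw [← ptOf_mul]
  apply val_injective
  rw [val_mul, val_ptOf_fnMor, val_ptOf_fnMor, val_ptOf_fnMor]
  refine one_coord_ext ?_
  rw [WittSub.coeff_add_zero _ _ 0 rfl, TruncatedWittVector.coeff_mk, TruncatedWittVector.coeff_mk,
    TruncatedWittVector.coeff_mk]
  exact apply_mul_of_prim ha χ χ'

variable [IsDomain A] [Algebra.FiniteType k A]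

omit [CharP k p] in
/-- Functions are determined by their values at characters. -/
theorem eq_zero_of_forall_char {a : A} (h : ∀ χ : A →ₐ[k] k, χ a = 0) : a = 0 := by
  haveI : IsJacobsonRing A := isJacobsonRing_of_finiteType (A := k)
  have h1 : a ∈ (⊥ : Ideal A).jacobson := by
    rw [Ideal.jacobson, Ideal.mem_sInf]
    rintro J ⟨-, hJ⟩
    haveI := hJ
    obtain ⟨χ, hχ⟩ := Groth.Agent.WittSub.exists_algHom_of_isMaximal (k := k) (B := A) J
    have hker : RingHom.ker χ = J := (hJ.eq_of_le (RingHom.ker_ne_top _) fun b hb => hχ b hb).symm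
    rw [← hker]
    exact h χ
  rwa [IsJacobsonRing.out ‹IsJacobsonRing A› (Ideal.isPrime_bot (α := A)).isRadical, Ideal.mem_bot] at h1

/-- In characteristic `p` a group-like element of a group killed by a power of `p` is trivial. -/
theorem groupLike_eq_one {g : A} (hg : IsGroupLikeElem k g) {N : ℕ}
    (hN : ∀ a, nI k A (p ^ N) a = algebraMap k A (Coalgebra.counit (R := k) a)) : g = 1 :=
  groupLike_eq_one_of_pow k A hg (pow_pos (Fact.out (p := p.Prime)).pos N)
    (by rw [← nI_groupLike k A hg, hN, hg.counit_eq_one, map_one])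

/-- A nontrivial group killed by a power of `p` has a nonzero primitive function. -/
theorem exists_prim [Coalgebra.IsCocomm k A] (hN : ∃ N : ℕ, ∀ a, nI k A (p ^ N) a = algebraMap k A (Coalgebra.counit (R := k) a))
    (hA : ¬ Function.Surjective (algebraMap k A)) :
    ∃ a : A, a ≠ 0 ∧ Coalgebra.comul (R := k) a = a ⊗ₜ[k] (1 : A) + (1 : A) ⊗ₜ[k] a := by
  obtain ⟨N, hN⟩ := hN
  by_contra h
  push Not at h
  have hspan := UnipMult.span_groupLike_eq_top (K := k) (C := A) fun x hx => by
    by_contra hx0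
    exact h x hx0 hx
  refine hA fun a => ?_
  have ha : a ∈ Submodule.span k {g : A | IsGroupLikeElem k g} := by rw [hspan]; exact Submodule.mem_top
  induction ha using Submodule.span_induction with
  | mem g hg => exact ⟨1, by rw [map_one, groupLike_eq_one hg hN]⟩
  | zero => exact ⟨0, map_zero _⟩
  | add x y _ _ hx hy =>
    obtain ⟨c, rfl⟩ := hx
    obtain ⟨d, rfl⟩ := hy
    exact ⟨c + d, map_add _ _ _⟩
  | smul r x _ hx =>
    obtain ⟨c, rfl⟩ := hx
    exact ⟨r * c, by rw [map_mul, Algebra.smul_def]⟩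

end Groth.Agent.WittUnip
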