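import Groth.Agent.WittUnip.Span
import Mathlib.LinearAlgebra.FreeModule.PID
import Mathlib.RingTheory.Bialgebra.MonoidAlgebra
import Mathlib.RingTheory.HopfAlgebra.GroupLike
import Mathlib.RingTheory.HopfAlgebra.Convolution

/-!
# The image of a large `p`-power is the coordinate ring of a split torus
-/

set_option autoImplicit false
set_option linter.style.haveILetI false
set_option linter.unusedSectionVars false

universe u

open TensorProduct Coalgebra WithConv

noncomputable section

namespace Groth.Agent.WittUnip

variable (k : Type u) [Field k] [IsAlgClosed k] (A : Type u) [CommRing A] [IsDomain A] [HopfAlgebra k A]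
  [Coalgebra.IsCocomm k A]

omit [Coalgebra.IsCocomm k A] in
theorem groupLike_eq_one_of_pow {g : A} (hg : IsGroupLikeElem k g) {n : ℕ} (hn : 0 < n) (h : g ^ n = 1) :
    g = 1 := by
  have hint : IsIntegral k g := .of_pow hn (by rw [h]; exact isIntegral_one)
  obtain ⟨c, hc⟩ := minpoly.degree_eq_one_iff.mp
    (IsAlgClosed.degree_eq_one_of_irreducible k (minpoly.irreducible hint))
  have h1 := hg.counit_eq_one
  rw [← hc, Bialgebra.counit_algebraMap] at h1
  rw [← hc, h1, map_one]

/-- The identity-power as a map of bialgebras. -/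
theorem exists_nI_bialg (m : ℕ) : ∃ F : A →ₐc[k] A, ∀ a, F a = nI k A m a := by
  refine ⟨((toConv (BialgHom.id k A)) ^ m).ofConv, fun a => ?_⟩
  have h := BialgHom.toAlgHom_convPow (toConv (BialgHom.id k A)) m
  exact congrArg (fun t : WithConv (A →ₐ[k] A) => t.ofConv a) h

omit [IsAlgClosed k] [IsDomain A] in
theorem antipode_nI (m : ℕ) (a : A) :
    HopfAlgebra.antipode k (nI k A m a) = nI k A m (HopfAlgebra.antipode k a) := by
  have h1 : (HopfAlgebra.antipodeAlgHom k A).comp (nI k A m) =
      ((toConv (HopfAlgebra.antipodeAlgHom k A)) ^ m).ofConv := comp_nI k A _ m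
  have h2 : toConv ((nI k A m).comp (HopfAlgebra.antipodeAlgHom k A)) =
      ((toConv (AlgHom.id k A)) ^ m)⁻¹ := rfl
  have h3 : toConv (HopfAlgebra.antipodeAlgHom k A) = (toConv (AlgHom.id k A))⁻¹ := rfl
  rw [← inv_pow, ← h3] at h2
  have h := h1.trans (congrArg ofConv h2).symm
  exact congrArg (fun f : A →ₐ[k] A => f a) h

theorem exists_torus_image [Algebra.FiniteType k A] (p : ℕ) [Fact p.Prime] [CharP k p] :
    ∃ (N r : ℕ) (π : A →ₐc[k] MonoidAlgebra k (Multiplicative (Fin r → ℤ))),
      Function.Surjective π ∧ (Function.Bijective (algebraMap k (MonoidAlgebra k (Multiplicative (Fin r → ℤ)))) →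
        ∀ a, nI k A (p ^ N) a = algebraMap k A (counit (R := k) a)) := by
  classical
  obtain ⟨s, hs⟩ := (inferInstance : Algebra.FiniteType k A).out
  obtain ⟨C, hC⟩ := exists_subC_finset k A s
  obtain ⟨N, hN⟩ := exists_nI_mem_glSpan k A C p
  obtain ⟨F, hF⟩ := exists_nI_bialg k A (p ^ N)
  have hFspan : ∀ a, F a ∈ glSpan k A := fun a => by
    have ha : a ∈ Algebra.adjoin k (s : Set A) := hs.symm ▸ Algebra.mem_top
    rw [hF]
    induction ha using Algebra.adjoin_induction with
    | mem x hx => exact hN x (hC x hx)
    | algebraMap c => rw [AlgHom.commutes]; exact Subalgebra.algebraMap_mem _ c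
    | add x y _ _ hx hy => rw [map_add]; exact add_mem hx hy
    | mul x y _ _ hx hy => rw [map_mul]; exact mul_mem hx hy
  let V : Submodule k A := LinearMap.range (F : A →ₗ[k] A)
  -- the components of an element of the image lie in the image
  have hli := linearIndepOn_isGroupLikeElem (R := k) (A := A)
  have hcomp : ∀ b ∈ V, b ∈ Submodule.span k {g : A | IsGroupLikeElem k g ∧ g ∈ V} := by
    rintro b ⟨a, rfl⟩
    obtain ⟨c, hcs, hc⟩ := Submodule.mem_span_set.mp (mem_glSpan k A |>.mp (hFspan a))
    change c.sum (fun g r => r • g) = F a at hc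
    show F a ∈ _
    rw [← hc, Finsupp.sum]
    refine Submodule.sum_mem _ fun g hg => Submodule.smul_mem _ _ (Submodule.subset_span ⟨hcs hg, ?_⟩)
    obtain ⟨φ, hφ⟩ : ∃ φ : A →ₗ[k] k, ∀ h ∈ c.support, φ h = if h = g then 1 else 0 := by
      let b := Module.Basis.extend hli
      refine ⟨b.coord ⟨g, hli.subset_extend _ (hcs hg)⟩, fun h hh => ?_⟩
      have hb : b ⟨h, hli.subset_extend _ (hcs hh)⟩ = h := by
        simp [b, Module.Basis.extend_apply_self]
      conv_lhs => rw [← hb, Module.Basis.coord_apply, Module.Basis.repr_self, Finsupp.single_apply]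
      simp
    have h2 : comul (R := k) (F a) = TensorProduct.map (F : A →ₗ[k] A) (F : A →ₗ[k] A) (comul a) :=
      (CoalgHomClass.map_comp_comul_apply F a).symm
    have h3 : Comod.cL φ (comul (R := k) (F a)) ∈ V := by
      rw [h2]
      generalize comul (R := k) a = t
      induction t using TensorProduct.induction_on with
      | zero => simp
      | tmul x y =>
        rw [TensorProduct.map_tmul, Comod.cL_tmul]
        exact V.smul_mem _ ⟨y, rfl⟩
      | add x y hx hy => simp only [map_add]; exact V.add_mem hx hy
    rw [← hc, Finsupp.sum, map_sum, map_sum, Finset.sum_eq_single g] at h3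
    · rw [map_smul, map_smul, (hcs hg).comul_eq_tmul_self, Comod.cL_tmul, hφ g hg, if_pos rfl, one_smul] at h3
      exact (V.smul_mem_iff (Finsupp.mem_support_iff.mp hg)).mp h3
    · intro h hh hne
      rw [map_smul, map_smul, (hcs hh).comul_eq_tmul_self, Comod.cL_tmul, hφ h hh, if_neg hne, zero_smul,
        smul_zero]
    · exact fun h => absurd hg h
  let M : Subgroup (GroupLike k A) :=
    { carrier := {g | (g : A) ∈ V}
      one_mem' := ⟨1, map_one F⟩
      mul_mem' := by
        rintro g h ⟨a, ha⟩ ⟨b, hb⟩
        exact ⟨a * b, by change F (a * b) = _; rw [map_mul]; exact congrArg₂ (· * ·) ha hb⟩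
      inv_mem' := by
        rintro g ⟨a, ha⟩
        refine ⟨HopfAlgebra.antipode k a, ?_⟩
        change F (HopfAlgebra.antipode k a) = HopfAlgebra.antipode k (g : A)
        rw [← show F a = (g : A) from ha, hF, hF, antipode_nI] }
  -- finite generation
  have hfin : M.FG := by
    choose c hcs hc using fun x : s => Submodule.mem_span_set.mp (hcomp (F x) ⟨(x : A), rfl⟩)
    let T : Set (GroupLike k A) := {g | ∃ x, (g : A) ∈ (c x).support}
    have hT : T.Finite := by
      refine ((Set.finite_iUnion fun x => (c x).support.finite_toSet).preimage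
        GroupLike.val_injective.injOn).subset ?_
      rintro g ⟨x, hx⟩
      exact Set.mem_iUnion.mpr ⟨x, hx⟩
    refine ⟨hT.toFinset, le_antisymm ((Subgroup.closure_le _).mpr ?_) fun g hg => ?_⟩
    · intro g hg
      obtain ⟨x, hx⟩ := hT.mem_toFinset.mp hg
      exact (hcs x hx).2
    · rw [Set.Finite.coe_toFinset]
      let U : Set A := GroupLike.val '' (Subgroup.closure T : Set (GroupLike k A))
      let W : Subalgebra k A := (Submodule.span k U).toSubalgebra
        (Submodule.subset_span ⟨1, one_mem _, rfl⟩) (fun x y hx hy => by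
          induction hx using Submodule.span_induction with
          | mem x hx =>
            induction hy using Submodule.span_induction with
            | mem y hy =>
              obtain ⟨g, hg, rfl⟩ := hx
              obtain ⟨h, hh, rfl⟩ := hy
              exact Submodule.subset_span ⟨g * h, mul_mem hg hh, rfl⟩
            | zero => rw [mul_zero]; exact zero_mem _
            | add y z _ _ h1 h2 => rw [mul_add]; exact add_mem h1 h2
            | smul r y _ h1 => rw [mul_smul_comm]; exact Submodule.smul_mem _ r h1
          | zero => rw [zero_mul]; exact zero_mem _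
          | add x z _ _ h1 h2 => rw [add_mul]; exact add_mem h1 h2
          | smul r x _ h1 => rw [smul_mul_assoc]; exact Submodule.smul_mem _ r h1)
      have hW : ∀ a, F a ∈ W := fun a => by
        have ha : a ∈ Algebra.adjoin k (s : Set A) := hs.symm ▸ Algebra.mem_top
        induction ha using Algebra.adjoin_induction with
        | mem x hx =>
          rw [← hc ⟨x, hx⟩]
          refine Submodule.sum_mem _ fun g hg => Submodule.smul_mem _ _ (Submodule.subset_span ?_)
          exact ⟨⟨g, (hcs _ hg).1⟩, Subgroup.subset_closure ⟨⟨x, hx⟩, hg⟩, rfl⟩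
        | algebraMap r => rw [hF, AlgHom.commutes]; exact W.algebraMap_mem r
        | add x y _ _ hx hy => rw [map_add]; exact add_mem hx hy
        | mul x y _ _ hx hy => rw [map_mul]; exact mul_mem hx hy
      obtain ⟨a, ha⟩ := hg
      have h4 : (g : A) ∈ Submodule.span k U := by rw [← show F a = (g : A) from ha]; exact hW a
      by_contra hgc
      have h5 : (g : A) ∉ Submodule.span k U := by
        have := linearIndependent_iff_notMem_span.mp hli ⟨g, g.2⟩
        refine fun hm => this (Submodule.span_mono ?_ hm)
        rintro _ ⟨h, hh, rfl⟩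
        exact ⟨⟨h, h.2⟩, ⟨Set.mem_univ _, fun e => hgc (by
          have : g = h := GroupLike.val_injective (congrArg Subtype.val e).symm
          rw [this]; exact hh)⟩, rfl⟩
      exact h5 h4
  haveI : Group.FG M := (Group.fg_iff_subgroup_fg M).mpr hfin
  haveI : IsMulTorsionFree M := by
    rw [isMulTorsionFree_iff_not_isOfFinOrder]
    rintro ⟨g, hgM⟩ hg1 hfo
    obtain ⟨n, hn, hpow⟩ := isOfFinOrder_iff_pow_eq_one.mp hfo
    refine hg1 (Subtype.ext (GroupLike.val_injective ?_))
    exact groupLike_eq_one_of_pow k A g.2 hn (congrArg (fun t : M => ((t : GroupLike k A) : A)) hpow)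
  haveI : Module.IsTorsionFree ℤ (Additive M) := Module.isTorsionFree_int_iff_isAddTorsionFree.mpr inferInstance
  haveI : Module.Finite ℤ (Additive M) := Module.Finite.iff_addGroup_fg.mpr inferInstance
  haveI : Module.Free ℤ (Additive M) := Module.free_of_finite_type_torsion_free'
  let e : (Fin (Module.finrank ℤ (Additive M)) → ℤ) ≃+ Additive M :=
    (Module.finBasis ℤ (Additive M)).equivFun.symm.toAddEquiv
  let ι : MonoidAlgebra k (Multiplicative (Fin (Module.finrank ℤ (Additive M)) → ℤ)) →ₐc[k] A :=
    MonoidAlgebra.liftGroupLikeBialgHom.comp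
      (MonoidAlgebra.mapDomainBialgHom k (M.subtype.comp (AddEquiv.toMultiplicativeLeft e).toMonoidHom))
  have hι1 : ∀ x, ι (MonoidAlgebra.single x 1) = ((M.subtype (AddEquiv.toMultiplicativeLeft e x) : GroupLike k A) : A) :=
    fun x => by simp [ι]
  have hinj : Function.Injective (M.subtype.comp (AddEquiv.toMultiplicativeLeft e).toMonoidHom) :=
    Subtype.val_injective.comp (AddEquiv.toMultiplicativeLeft e).injective
  have hLI : LinearIndependent k fun x => ((M.subtype (AddEquiv.toMultiplicativeLeft e x) : GroupLike k A) : A) :=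
    hli.linearIndependent.comp (fun x => ⟨_, (M.subtype (AddEquiv.toMultiplicativeLeft e x)).2⟩)
      (fun x y h => hinj (GroupLike.val_injective (congrArg Subtype.val h)))
  have hιlin : ∀ m, ι m = Finsupp.linearCombination k
      (fun x => ((M.subtype (AddEquiv.toMultiplicativeLeft e x) : GroupLike k A) : A)) m.coeff := fun m => by
    induction m using MonoidAlgebra.induction_linear with
    | zero => simp
    | add x y hx hy => simp [hx, hy]
    | single x r =>
      rw [show MonoidAlgebra.single x r = r • MonoidAlgebra.single x (1 : k) by simp, map_smul, hι1]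
      simp
  have hιinj : Function.Injective ι := fun m m' h => by
    rw [hιlin, hιlin] at h
    exact MonoidAlgebra.coeff_injective (hLI h)
  have hιsurj : ∀ a, ∃ m, ι m = F a := fun a => by
    have h := hcomp (F a) ⟨a, rfl⟩
    generalize F a = b at h ⊢
    induction h using Submodule.span_induction with
    | mem g hg =>
      refine ⟨MonoidAlgebra.single ((AddEquiv.toMultiplicativeLeft e).symm ⟨⟨g, hg.1⟩, hg.2⟩) 1, ?_⟩
      simp [hι1]
    | zero => exact ⟨0, map_zero ι⟩
    | add x y _ _ h1 h2 =>
      obtain ⟨m1, h1⟩ := h1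
      obtain ⟨m2, h2⟩ := h2
      exact ⟨m1 + m2, by rw [map_add, h1, h2]⟩
    | smul r x _ h1 =>
      obtain ⟨m1, h1⟩ := h1
      exact ⟨r • m1, by rw [map_smul, h1]⟩
  choose m hm using hιsurj
  let π' : A →ₐ[k] MonoidAlgebra k (Multiplicative (Fin (Module.finrank ℤ (Additive M)) → ℤ)) :=
    AlgHom.ofLinearMap
      { toFun := m
        map_add' := fun a b => hιinj (by rw [map_add, hm, hm, hm, map_add])
        map_smul' := fun r a => hιinj (by rw [RingHom.id_apply, map_smul, hm, hm, map_smul]) }
      (hιinj (by simp [hm]))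
      (fun a b => hιinj (by
        show ι (m (a * b)) = ι (m a * m b)
        rw [map_mul, hm, hm, hm, map_mul]))
  let π := BialgHom.ofAlgHom π'
    (AlgHom.ext fun a => by
      show counit (R := k) (m a) = counit (R := k) a
      rw [← CoalgHomClass.counit_comp_apply ι, hm, CoalgHomClass.counit_comp_apply F])
    (AlgHom.ext fun a => by
      apply TensorProduct.map_injective_of_flat_flat (ι : _ →ₗ[k] A) (ι : _ →ₗ[k] A) hιinj hιinj
      show TensorProduct.map (ι : _ →ₗ[k] A) (ι : _ →ₗ[k] A) (Algebra.TensorProduct.map π' π' (comul a)) =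
        TensorProduct.map (ι : _ →ₗ[k] A) (ι : _ →ₗ[k] A) (comul (m a))
      rw [CoalgHomClass.map_comp_comul_apply ι, hm, ← CoalgHomClass.map_comp_comul_apply F]
      generalize comul (R := k) a = t
      induction t using TensorProduct.induction_on with
      | zero => simp
      | tmul x y =>
        rw [Algebra.TensorProduct.map_tmul, TensorProduct.map_tmul, TensorProduct.map_tmul]
        exact congrArg₂ (fun u v => u ⊗ₜ[k] v) (hm x) (hm y)
      | add x y hx hy => simp only [map_add, hx, hy])
  refine ⟨N, _, π, fun y => ?_, fun hbij a => ?_⟩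
  · have hmem : ι y ∈ V := by
      rw [hιlin, Finsupp.linearCombination_apply, Finsupp.sum]
      exact V.sum_mem fun x _ => V.smul_mem _ (AddEquiv.toMultiplicativeLeft e x).2
    obtain ⟨a, ha⟩ := hmem
    exact ⟨a, hιinj ((hm a).trans ha)⟩
  · obtain ⟨r, hr⟩ := hbij.2 (m a)
    have h6 : F a = algebraMap k A r := by
      rw [← hm a, ← hr]
      exact AlgHomClass.commutes ι r
    rw [← hF, h6]
    congr 1
    rw [← CoalgHomClass.counit_comp_apply F a, h6, Bialgebra.counit_algebraMap]

end Groth.Agent.WittUnip
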