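import Groth.Agent.WittUnip.Coord
import Groth.Agent.GrpField.RatClosure
import Groth.Agent.GrpField.SchImgExists
import Groth.Agent.GrpComp.Identity
import Groth.Agent.GrpBasic.Perfect
import Mathlib.RingTheory.Ideal.KrullsHeightTheorem

/-!
# Subgroups: images, identity components of closures, kernels of characters to `W_1`
-/

set_option autoImplicit false
set_option linter.style.haveILetI false
set_option linter.unusedSectionVars false
set_option backward.isDefEq.respectTransparency.types false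

universe u

open CategoryTheory CategoryTheory.Limits MonoidalCategory CartesianMonoidalCategory MonObj GrpObj
open AlgebraicGeometry TopologicalSpace WithConv
open Groth.Agent.WittHom Groth.Agent.WittSub

noncomputable section

namespace Groth.Agent.WittUnip

variable {p : ℕ} [Fact p.Prime] {k : Type u} [Field k] [IsAlgClosed k]

local notation "Sk" => Spec (CommRingCat.of k)

/-- The point underlying a rational point. -/
abbrev pc {X : Over (Spec (CommRingCat.of k))} (a : 𝟙_ (Over (Spec (CommRingCat.of k))) ⟶ X) : X.left :=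
  a.left (IsLocalRing.closedPoint k)

theorem pc_comp {X Y : Over (Spec (CommRingCat.of k))} (a : 𝟙_ (Over (Spec (CommRingCat.of k))) ⟶ X) (f : X ⟶ Y) :
    pc (a ≫ f) = f.left (pc a) := rfl

theorem exists_pc_eq {X : Over (Spec (CommRingCat.of k))} [LocallyOfFiniteType X.hom] {x : X.left}
    (hx : x ∈ closedPoints X.left) : ∃ a : 𝟙_ (Over (Spec (CommRingCat.of k))) ⟶ X, pc a = x :=
  ⟨Over.homMk ((pointEquivClosedPoint X.hom).symm ⟨x, hx⟩).1 ((pointEquivClosedPoint X.hom).symm ⟨x, hx⟩).2,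
    congrArg Subtype.val ((pointEquivClosedPoint X.hom).apply_symm_apply ⟨x, hx⟩)⟩

theorem pc_one_eq_ept (G : Over (Spec (CommRingCat.of k))) [GrpObj G] :
    pc (1 : 𝟙_ (Over (Spec (CommRingCat.of k))) ⟶ G) = GrpComp.ept G := by
  rw [GrpComp.ept, ← MonObj.one_eq_one]

/-- A smooth connected closed subgroup. -/
@[reducible] def UG.ofClosed (G : UG p k) (H : Over (Spec (CommRingCat.of k))) [GrpObj H] (j : H ⟶ G.X) [IsMonHom j]
    [IsClosedImmersion j.left] [Smooth H.hom] [ConnectedSpace ↥H.left] : UG p k :=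
  haveI : Mono j := GrpField.SchImg.mono_of_isClosedImmersion j
  haveI : IsAffine H.left := isAffine_of_isAffineHom j.left
  haveI : IsCommMonObj H := isCommMonObj_iff_isMulCommutative _ |>.2 fun T => ⟨⟨fun a b => by
    rw [← cancel_mono j, MonObj.mul_comp, MonObj.mul_comp, mul_comm]⟩⟩
  { X := H
    killed := by
      obtain ⟨N, hN⟩ := G.killed
      refine ⟨N, ?_⟩
      rw [← cancel_mono j, MonObj.pow_comp, Category.id_comp, MonObj.one_comp]
      calc j ^ p ^ N = j ≫ (𝟙 G.X) ^ p ^ N := by rw [MonObj.comp_pow, Category.comp_id]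
        _ = 1 := by rw [hN, MonObj.comp_one] }

/-- The image of a homomorphism. -/
theorem exists_image_ug {G H : UG p k} (f : H.X ⟶ G.X) [IsMonHom f] :
    ∃ (I : UG p k) (j : I.X ⟶ G.X) (g : H.X ⟶ I.X), IsMonHom j ∧ IsClosedImmersion j.left ∧ IsMonHom g ∧
      Surjective g.left ∧ Flat g.left ∧ g ≫ j = f := by
  haveI : QuasiCompact f.left := by
    haveI : QuasiCompact (f.left ≫ G.X.hom) := by rw [Over.w]; infer_instance
    exact QuasiCompact.of_comp f.left G.X.hom
  obtain ⟨K, hK, j, g, hj, hg, hgj, hjc, hd, hq, hs⟩ := GrpField.SchImg.exists_image f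
  haveI := hj
  haveI := hg
  haveI := hjc
  haveI := hs
  haveI : AlgebraicGeometry.IsReduced K.left := IsSchemeTheoreticallyDominant.isReduced g.left
  haveI : LocallyOfFiniteType K.hom := by rw [← Over.w j]; infer_instance
  letI : GrpObj (Over.mk K.hom) := hK
  haveI : Smooth K.hom := GrpBasic.smooth_of_grpObj_perfect K.hom
  haveI : ConnectedSpace ↥K.left := Function.Surjective.connectedSpace g.left.surjective g.left.continuous
  refine ⟨G.ofClosed K j, j, g, hj, hjc, hg, hs, ?_, hgj⟩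
  exact flat_of_surjective (G := H) (H := G.ofClosed K j) g

/-- A dimension zero group is trivial. -/
theorem eq_one_of_dm_zero {G : UG p k} (h : G.dm = 0) (a : 𝟙_ (Over (Spec (CommRingCat.of k))) ⟶ G.X) : a = 1 := by
  haveI : LocallyOfFiniteType (𝟙_ (Over (Spec (CommRingCat.of k)))).hom :=
    inferInstanceAs (LocallyOfFiniteType (𝟙 (Spec (CommRingCat.of k))))
  haveI : JacobsonSpace G.X.left := LocallyOfFiniteType.jacobsonSpace G.X.hom
  have hmax : ∀ Z : IrreducibleCloseds G.X.left, IsMax Z := Order.krullDim_nonpos_iff_forall_isMax.1 (by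
    show topologicalKrullDim ↥G.X.left ≤ 0
    rw [G.topologicalKrullDim_eq, h]; rfl)
  have hclosed : ∀ b : 𝟙_ (Over (Spec (CommRingCat.of k))) ⟶ G.X, IsClosed ({pc b} : Set G.X.left) := fun b =>
    ((pointEquivClosedPoint G.X.hom) ⟨b.left, Over.w b⟩).2
  let top : IrreducibleCloseds G.X.left := ⟨Set.univ, IrreducibleSpace.isIrreducible_univ _, isClosed_univ⟩
  let Z : IrreducibleCloseds G.X.left := ⟨{pc a}, isIrreducible_singleton, hclosed a⟩
  have h1 : pc (1 : 𝟙_ (Over (Spec (CommRingCat.of k))) ⟶ G.X) ∈ ({pc a} : Set G.X.left) :=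
    (hmax Z (show Z ≤ top from fun x _ => Set.mem_univ x)) (Set.mem_univ _)
  have h2 := (pointEquivClosedPoint G.X.hom).injective (a₁ := ⟨a.left, Over.w a⟩)
    (a₂ := ⟨(1 : 𝟙_ (Over (Spec (CommRingCat.of k))) ⟶ G.X).left, Over.w _⟩) (Subtype.ext (Set.mem_singleton_iff.1 h1).symm)
  exact Over.OverMorphism.ext (congrArg Subtype.val h2)

/-- A group of rational points gives a connected closed subgroup containing every irreducible set through the unit
inside its closure. -/
theorem exists_component (G : UG p k) (S : Subgroup (𝟙_ (Over (Spec (CommRingCat.of k))) ⟶ G.X)) :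
    ∃ (H : UG p k) (j : H.X ⟶ G.X), IsMonHom j ∧ IsClosedImmersion j.left ∧
      (Set.range j.left ⊆ closure (pc '' (S : Set _))) ∧
      ∀ Z : Set G.X.left, IsIrreducible Z → pc (1 : 𝟙_ (Over (Spec (CommRingCat.of k))) ⟶ G.X) ∈ Z →
        Z ⊆ closure (pc '' (S : Set _)) → Z ⊆ Set.range j.left := by
  obtain ⟨H₁, hH₁, i₁, hi₁, hc₁, hs₁, hr₁⟩ := GrpField.RatClosure.exists_subgroup_closure S
  letI := hH₁
  haveI := hi₁
  haveI := hc₁
  haveI := hs₁
  haveI : LocallyOfFiniteType H₁.hom := inferInstance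
  obtain ⟨G₀, hG₀, incl, hincl, hc₀, hf₀, hr₀, hgi, -, hbij⟩ := GrpComp.exists_identity_subgroup H₁
  letI := hG₀
  haveI := hincl
  haveI := hc₀
  haveI := hgi
  haveI : AlgebraicGeometry.IsReduced H₁.left := SmoothRed.isReduced_of_smooth_scheme H₁.hom
  haveI : ∀ w, _root_.IsReduced (G₀.left.presheaf.stalk w) := fun w =>
    isReduced_of_injective (RingEquiv.ofBijective (incl.left.stalkMap w).hom (hbij w)).symm.toRingHom
      (RingEquiv.injective _)
  haveI : AlgebraicGeometry.IsReduced G₀.left := isReduced_of_isReduced_stalk _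
  haveI : LocallyOfFiniteType G₀.hom := by rw [← Over.w incl]; infer_instance
  letI : GrpObj (Over.mk G₀.hom) := hG₀
  haveI : Smooth G₀.hom := GrpBasic.smooth_of_grpObj_perfect G₀.hom
  haveI : ConnectedSpace ↥G₀.left := by
    rw [connectedSpace_iff_univ]
    refine ⟨⟨(η[G₀]).left (IsLocalRing.closedPoint k), trivial⟩, ?_⟩
    refine (incl.left.isClosedEmbedding.isInducing.isPreconnected_image).1 ?_
    rw [Set.image_univ]
    show _root_.IsPreconnected (Set.range incl.left)
    rw [hr₀]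
    exact isPreconnected_connectedComponent
  let j : G₀ ⟶ G.X := incl ≫ i₁
  haveI : IsClosedImmersion j.left := inferInstanceAs (IsClosedImmersion (incl.left ≫ i₁.left))
  haveI : IsMonHom j := inferInstanceAs (IsMonHom (incl ≫ i₁))
  have hrj : Set.range j.left = i₁.left '' Set.range incl.left := by
    rw [show ⇑j.left = i₁.left ∘ incl.left from rfl, Set.range_comp]
  refine ⟨G.ofClosed G₀ j, j, inferInstance, inferInstance, ?_, fun Z hZ h1 hZS => ?_⟩
  · rw [hrj]
    exact (Set.image_subset_range _ _).trans hr₁.subset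
  · have hZr : Z ⊆ Set.range i₁.left := hZS.trans hr₁.superset
    rw [hrj, hr₀]
    intro z hz
    obtain ⟨y, rfl⟩ := hZr hz
    refine ⟨y, ?_, rfl⟩
    have hpre : _root_.IsPreconnected (i₁.left ⁻¹' Z) := by
      refine (i₁.left.isClosedEmbedding.isInducing.isPreconnected_image).1 ?_
      rw [Set.image_preimage_eq_of_subset hZr]
      exact hZ.2.isPreconnected
    refine hpre.subset_connectedComponent ?_ hz
    show i₁.left (GrpComp.ept H₁) ∈ Z
    rw [← pc_one_eq_ept, ← pc_comp, MonObj.one_comp]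
    exact h1

variable [CharP k p]

/-- In dimension at least two there is a proper nontrivial connected subgroup. -/
theorem exists_proper_sub (G : UG p k) (h2 : 2 ≤ G.dm) :
    ∃ (H : UG p k) (j : H.X ⟶ G.X), IsMonHom j ∧ IsClosedImmersion j.left ∧ 1 ≤ H.dm ∧ H.dm < G.dm := by
  obtain ⟨A, _, _, e, he, _, _, _, _⟩ := exists_coordHopf G.X
  haveI := he
  have hdim : ringKrullDim A = (G.dm : WithBot ℕ∞) := by rw [← topologicalKrullDim_eq e, G.topologicalKrullDim_eq]
  haveI : IsNoetherianRing A := Algebra.FiniteType.isNoetherianRing k A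
  have hN : ∃ N : ℕ, ∀ a, nI k A (p ^ N) a = algebraMap k A (Coalgebra.counit (R := k) a) :=
    G.killed.imp fun N hN => (id_pow_eq_one_iff e _).1 hN
  obtain ⟨l, hl⟩ := Order.le_krullDim_iff.1 (show ((2 : ℕ) : WithBot ℕ∞) ≤ Order.krullDim (PrimeSpectrum A) by
    show _ ≤ ringKrullDim A
    rw [hdim]; exact_mod_cast h2)
  let P : Fin 3 → PrimeSpectrum A := fun i => l ⟨i, by omega⟩
  have h01 : P 0 < P 1 := l.strictMono (Fin.mk_lt_mk.2 Nat.one_pos)
  have h12 : P 1 < P 2 := l.strictMono (Fin.mk_lt_mk.2 (Nat.lt_succ_self 1))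
  obtain ⟨m, hm, hPm⟩ := Ideal.exists_le_maximal _ (P 2).isPrime.ne_top
  haveI := hm
  obtain ⟨χ, hχ⟩ := Groth.Agent.WittSub.exists_algHom_of_isMaximal (k := k) (B := A) m
  have hker : RingHom.ker χ = m := (hm.eq_of_le (RingHom.ker_ne_top _) fun b hb => hχ b hb).symm
  have hA : ¬ Function.Surjective (algebraMap k A) := fun hs => by
    have hbot : ∀ I : Ideal A, I ≠ ⊤ → I = ⊥ := fun I hI => (Submodule.eq_bot_iff _).2 fun x hx => by
      obtain ⟨c, rfl⟩ := hs x
      by_contra hc
      exact hI (Ideal.eq_top_of_isUnit_mem I hx ((isUnit_iff_ne_zero.2 fun h => hc (by rw [h, map_zero])).map _))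
    exact h01.ne (PrimeSpectrum.ext ((hbot _ (P 0).isPrime.ne_top).trans (hbot _ (P 1).isPrime.ne_top).symm))
  obtain ⟨a, ha0, ha⟩ := exists_prim (p := p) (k := k) (A := A) hN hA
  -- the fibre through `m`
  let b : A := a - algebraMap k A (χ a)
  have hbm : b ∈ m := by
    rw [← hker, RingHom.mem_ker, map_sub, AlgHom.commutes, Algebra.algebraMap_self, RingHom.id_apply, sub_self]
  obtain ⟨Q, hQmin, hQm⟩ := Ideal.exists_minimalPrimes_le (I := Ideal.span {b}) (J := m)
    ((Ideal.span_singleton_le_iff_mem _).2 hbm)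
  haveI hQp : Q.IsPrime := hQmin.1.1
  have hQne : Q ≠ m := by
    intro hQ
    have h1 := Ideal.height_le_one_of_isPrincipal_of_mem_minimalPrimes (Ideal.span {b}) Q hQmin
    rw [hQ] at h1
    have h3 : (P 0).asIdeal.height + 1 ≤ (P 1).asIdeal.height := Ideal.height_add_one_le_of_lt_of_isPrime h01
    have h4 : (P 1).asIdeal.height + 1 ≤ m.height :=
      (Ideal.height_add_one_le_of_lt_of_isPrime h12).trans (Ideal.height_mono hPm)
    have h5 : (2 : ℕ∞) ≤ m.height := by
      refine le_trans ?_ h4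
      calc (2 : ℕ∞) = 1 + 1 := by norm_num
        _ ≤ (P 1).asIdeal.height + 1 := by gcongr; exact le_trans (by simp) h3
    exact absurd (h5.trans h1) (by norm_num)
  -- translation
  let x₀ := ptOf e (toConv χ)
  let τ : G.X ⟶ G.X := 𝟙 G.X * (toUnit G.X ≫ x₀⁻¹)
  have hτ : ∀ y : 𝟙_ (Over (Spec (CommRingCat.of k))) ⟶ G.X, y ≫ τ = y * x₀⁻¹ := fun y => by
    rw [MonObj.comp_mul, Category.comp_id, ← Category.assoc, toUnit_unique (y ≫ toUnit G.X) (𝟙 _),
      Category.id_comp]
  haveI hW : Smooth (WittGrp.W p 1 (Spec (CommRingCat.of k))).hom := (Groth.Agent.S12182.result p k 1).1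
  let φ := fnMor (p := p) e fun _ : Fin 1 => a
  haveI hφ : IsMonHom φ := isMonHom_fnMor e ha
  let S : Subgroup (𝟙_ (Over (Spec (CommRingCat.of k))) ⟶ G.X) :=
    { carrier := {y | y ≫ φ = 1}
      one_mem' := MonObj.one_comp φ
      mul_mem' := fun {y z} hy hz => by
        show (y * z) ≫ φ = 1
        rw [MonObj.mul_comp, show y ≫ φ = 1 from hy, show z ≫ φ = 1 from hz, _root_.one_mul]
      inv_mem' := fun {y} hy => by
        show y⁻¹ ≫ φ = 1
        rw [GrpObj.inv_comp, show y ≫ φ = 1 from hy, inv_one] }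
  let Z₀ : Set G.X.left := e.hom.left '' PrimeSpectrum.zeroLocus (Q : Set A)
  have hirr : IsIrreducible (PrimeSpectrum.zeroLocus (Q : Set A)) := by
    rw [PrimeSpectrum.isIrreducible_zeroLocus_iff, hQp.radical]
    exact hQp
  have hZirr : IsIrreducible Z₀ := hirr.image _ e.hom.left.continuous.continuousOn
  have hsub : Z₀ ⊆ closure (pc '' {y | y ≫ τ ∈ S}) := by
    intro z hz
    haveI : JacobsonSpace G.X.left := LocallyOfFiniteType.jacobsonSpace G.X.hom
    haveI : IsIso e.hom.left := inferInstanceAs (IsIso ((Over.forget _).map e.hom))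
    have hcl : IsClosed Z₀ :=
      e.hom.left.homeomorph.isClosedMap _ (PrimeSpectrum.isClosed_zeroLocus _)
    rw [← hcl.closure_eq, ← JacobsonSpace.closure_inter_closedPoints_eq_closure hcl.isLocallyClosed] at hz
    refine closure_mono ?_ hz
    rintro w ⟨⟨q, hq, rfl⟩, hwc⟩
    obtain ⟨y, hy⟩ := exists_pc_eq (X := G.X) hwc
    refine ⟨y, ?_, hy⟩
    obtain ⟨ψ, rfl⟩ := (ptOf_bijective e).2 y
    have hq' : (⟨RingHom.ker ψ.ofConv, RingHom.ker_isPrime _⟩ : PrimeSpectrum A) = q :=
      e.hom.left.homeomorph.injective ((ptOf_point e ψ).symm.trans hy)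
    have hψb : ψ.ofConv b = 0 := by
      have : b ∈ q.asIdeal := hq (hQmin.1.2 (Ideal.mem_span_singleton_self b))
      rw [← hq'] at this
      exact this
    show (ptOf e ψ ≫ τ) ≫ φ = 1
    rw [hτ, MonObj.mul_comp, GrpObj.inv_comp, mul_inv_eq_one]
    refine val_injective ?_
    rw [val_ptOf_fnMor, val_ptOf_fnMor]
    refine one_coord_ext ?_
    rw [TruncatedWittVector.coeff_mk, TruncatedWittVector.coeff_mk]
    rw [show b = a - algebraMap k A (χ a) from rfl, map_sub, AlgHom.commutes, Algebra.algebraMap_self, RingHom.id_apply,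
      sub_eq_zero] at hψb
    exact hψb
  let Z : Set G.X.left := τ.left '' Z₀
  have hx₀Z : pc x₀ ∈ Z₀ := ⟨⟨RingHom.ker χ, RingHom.ker_isPrime _⟩, by
    show (Q : Set A) ⊆ (RingHom.ker χ : Ideal A)
    rw [hker]; exact hQm, (ptOf_point e (toConv χ)).symm⟩
  obtain ⟨H, j, hj, hjc, hjS, hjZ⟩ := exists_component G S
  have h1Z : pc (1 : 𝟙_ (Over (Spec (CommRingCat.of k))) ⟶ G.X) ∈ Z := by
    rw [← mul_inv_cancel x₀, ← hτ]
    exact ⟨pc x₀, hx₀Z, rfl⟩
  have hZsub : Z ⊆ Set.range j.left := hjZ Z (hZirr.image _ τ.left.continuous.continuousOn) h1Z (by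
    refine (Set.image_mono hsub).trans ((image_closure_subset_closure_image τ.left.continuous).trans (closure_mono ?_))
    rintro _ ⟨_, ⟨y, hy, rfl⟩, rfl⟩
    exact ⟨y ≫ τ, hy, rfl⟩)
  refine ⟨H, j, hj, hjc, Nat.one_le_iff_ne_zero.2 fun h0 => hQne ?_, dm_lt G j fun hsurj => ha0 ?_⟩
  · -- `H` trivial would make the fibre a point
    have hone : ∀ z : G.X.left, z ∈ Set.range j.left → IsClosed ({z} : Set G.X.left) → z = pc (1 : 𝟙_ _ ⟶ G.X) := by
      rintro _ ⟨w, rfl⟩ hz
      have hwc : w ∈ closedPoints H.X.left := by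
        show IsClosed {w}
        have : ({w} : Set H.X.left) = j.left ⁻¹' {j.left w} := by
          ext v; simp [j.left.isClosedEmbedding.injective.eq_iff]
        rw [this]
        exact hz.preimage j.left.continuous
      obtain ⟨c, hc⟩ := exists_pc_eq (X := H.X) hwc
      rw [← hc, ← pc_comp, eq_one_of_dm_zero h0 c, MonObj.one_comp]
    haveI : IsJacobsonRing A := isJacobsonRing_of_finiteType (A := k)
    refine le_antisymm hQm ?_
    conv_rhs => rw [← IsJacobsonRing.out ‹IsJacobsonRing A› hQp.isRadical]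
    rw [Ideal.jacobson]
    refine le_sInf ?_
    rintro J ⟨hJQ, hJ⟩
    haveI := hJ
    obtain ⟨ψ, hψ⟩ := Groth.Agent.WittSub.exists_algHom_of_isMaximal (k := k) (B := A) J
    have hkJ : RingHom.ker ψ = J := (hJ.eq_of_le (RingHom.ker_ne_top _) fun b hb => hψ b hb).symm
    let y := ptOf e (toConv ψ)
    have hyZ : pc (y ≫ τ) ∈ Z := ⟨pc y, ⟨⟨RingHom.ker ψ, RingHom.ker_isPrime _⟩, by
      show (Q : Set A) ⊆ (RingHom.ker ψ : Ideal A)
      rw [hkJ]; exact hJQ, (ptOf_point e (toConv ψ)).symm⟩, rfl⟩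
    have h6 := hone _ (hZsub hyZ) ((pointEquivClosedPoint G.X.hom) ⟨(y ≫ τ).left, Over.w _⟩).2
    have h7 : y ≫ τ = 1 := Over.OverMorphism.ext (congrArg Subtype.val ((pointEquivClosedPoint G.X.hom).injective
      (a₁ := ⟨(y ≫ τ).left, Over.w _⟩) (a₂ := ⟨(1 : 𝟙_ _ ⟶ G.X).left, Over.w _⟩) (Subtype.ext h6)))
    rw [hτ, mul_inv_eq_one] at h7
    have h8 : ψ = χ := congrArg ofConv ((ptOf_bijective e).1 h7)
    rw [← hkJ, h8, hker]
  · -- `H` everything would kill `a`
    refine eq_zero_of_forall_char (k := k) fun ψ => ?_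
    have hall : φ = 1 := by
      haveI := hsurj
      haveI : AlgebraicGeometry.IsReduced G.X.left := inferInstance
      have key : pc '' {y | y ≫ φ = 1} ⊆ {z | φ.left z = pc (1 : 𝟙_ _ ⟶ WittGrp.W p 1 Sk)} := by
        rintro _ ⟨y, hy, rfl⟩
        show φ.left (pc y) = _
        rw [← pc_comp, show y ≫ φ = 1 from hy]
      haveI := WittHom.isAffine_W (p := p) (k := k) 1
      have hcl : IsClosed {z | φ.left z = pc (1 : 𝟙_ _ ⟶ WittGrp.W p 1 Sk)} :=
        ((pointEquivClosedPoint (WittGrp.W p 1 Sk).hom) ⟨(1 : 𝟙_ _ ⟶ WittGrp.W p 1 Sk).left, Over.w _⟩).2.preimage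
          φ.left.continuous
      refine hom_ext_pt fun y => ?_
      rw [MonObj.comp_one]
      have hy : φ.left (pc y) = pc (1 : 𝟙_ _ ⟶ WittGrp.W p 1 Sk) :=
        closure_minimal key hcl (hjS (j.left.surjective (pc y)))
      exact Over.OverMorphism.ext (congrArg Subtype.val ((pointEquivClosedPoint (WittGrp.W p 1 Sk).hom).injective
        (a₁ := ⟨(y ≫ φ).left, Over.w _⟩) (a₂ := ⟨(1 : 𝟙_ _ ⟶ WittGrp.W p 1 Sk).left, Over.w _⟩) (Subtype.ext hy)))
    have h9 := val_ptOf_fnMor (p := p) e (fun _ : Fin 1 => a) (toConv ψ)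
    rw [show fnMor (p := p) e (fun _ : Fin 1 => a) = 1 from hall, MonObj.comp_one] at h9
    have h10 := congrArg (fun v : TW p 1 k => v.coeff 0) h9
    simp only [TruncatedWittVector.coeff_mk] at h10
    rw [← show toConv ψ a = ψ a from rfl]
    refine h10.symm.trans ?_
    rw [WittExt.val_one]
    exact TruncatedWittVector.coeff_zero (p := p) _ _ _

end Groth.Agent.WittUnip
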