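import Groth.Agent.WittUnip.Reduce
import Groth.Agent.WittUnip.Conil
import Groth.Agent.WittUnip.Sub

/-!
# One-dimensional connected commutative unipotent groups are `W_1`
-/

set_option autoImplicit false
set_option linter.style.haveILetI false
set_option linter.unusedSectionVars false
set_option backward.isDefEq.respectTransparency.types false

universe u

open CategoryTheory CategoryTheory.Limits MonoidalCategory CartesianMonoidalCategory MonObj GrpObj
open AlgebraicGeometry TopologicalSpace WithConv TensorProduct Coalgebra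
open Groth.Agent.WittHom Groth.Agent.WittSub Groth.Agent.Comod

noncomputable section

namespace Groth.Agent.WittUnip

/-- `p` times a Witt vector of length two with one component. -/
theorem p_smul_hd {p : ℕ} [Fact p.Prime] {k : Type u} [Field k] [Infinite k] [CharP k p] (t : k) :
    ((p • WittExt.hd p 2 t : TW p 2 k)).coeff 1 = t ^ p := by
  let v : WittVector p k := WittVector.mk p fun j => if j = 0 then t else 0
  have hv : WittExt.hd p 2 t = WittVector.truncate 2 v := TruncatedWittVector.ext fun i => by
    rw [WittExt.coeff_hd, WittVector.coeff_truncate, WittVector.coeff_mk]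
  rw [hv, ← map_nsmul, WittVector.coeff_truncate, nsmul_eq_mul, mul_comm]
  exact (WittVector.mul_charP_coeff_succ v 0).trans (by simp [v])

variable {p : ℕ} [Fact p.Prime] {k : Type u} [Field k] [IsAlgClosed k] [CharP k p]
  {A : Type u} [CommRing A] [IsDomain A] [HopfAlgebra k A] [Algebra.FiniteType k A] [Coalgebra.IsCocomm k A]

variable (k) in
/-- The two variable evaluation at a function. -/
def two (z : A) : MvPolynomial (Fin 2) k →ₐ[k] A ⊗[k] A := MvPolynomial.aeval ![z ⊗ₜ[k] 1, 1 ⊗ₜ[k] z]

omit [IsAlgClosed k] [IsDomain A] [Algebra.FiniteType k A] [Coalgebra.IsCocomm k A] in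
theorem tmul_mem_two {z u v : A} (hu : u ∈ Algebra.adjoin k {z}) (hv : v ∈ Algebra.adjoin k {z}) :
    u ⊗ₜ[k] v ∈ (two k z).range := by
  rw [Algebra.adjoin_singleton_eq_range_aeval] at hu hv
  obtain ⟨f, rfl⟩ := hu
  obtain ⟨g, rfl⟩ := hv
  refine ⟨Polynomial.aeval (MvPolynomial.X 0) f * Polynomial.aeval (MvPolynomial.X 1) g, ?_⟩
  have h0 : two k z (MvPolynomial.X 0) = Algebra.TensorProduct.includeLeft (R := k) (S := k) (B := A) z := by simp [two]
  have h1 : two k z (MvPolynomial.X 1) = Algebra.TensorProduct.includeRight (R := k) (A := A) z := by simp [two]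
  change two k z _ = _
  rw [map_mul, ← Polynomial.aeval_algHom_apply, ← Polynomial.aeval_algHom_apply, h0, h1,
    Polynomial.aeval_algHom_apply, Polynomial.aeval_algHom_apply]
  simp

omit [IsAlgClosed k] [IsDomain A] [Algebra.FiniteType k A] [Coalgebra.IsCocomm k A] in
theorem two_range_mono {z w : A} (h : z ∈ Algebra.adjoin k {w}) : (two k z).range ≤ (two k w).range := by
  rintro _ ⟨f, rfl⟩
  have h1 : z ⊗ₜ[k] (1 : A) ∈ (two k w).range := tmul_mem_two h (one_mem _)
  have h2 : (1 : A) ⊗ₜ[k] z ∈ (two k w).range := tmul_mem_two (one_mem _) h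
  obtain ⟨a, ha⟩ := h1
  obtain ⟨b, hb⟩ := h2
  refine ⟨MvPolynomial.aeval ![a, b] f, ?_⟩
  show two k w _ = two k z f
  rw [← AlgHom.comp_apply, MvPolynomial.comp_aeval]
  congr 2
  funext i
  fin_cases i
  · exact ha
  · exact hb

omit [IsAlgClosed k] [IsDomain A] [Algebra.FiniteType k A] [Coalgebra.IsCocomm k A] in
theorem lift_two (z : A) (χ χ' : A →ₐ[k] k) (c : MvPolynomial (Fin 2) k) :
    Algebra.TensorProduct.lift χ χ' (fun _ _ => .all _ _) (two k z c) = WittExt.ev (χ z) (χ' z) c :=
  RingHom.congr_fun (MvPolynomial.ringHom_ext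
    (f := (Algebra.TensorProduct.lift χ χ' fun _ _ => .all _ _).toRingHom.comp (two k z).toRingHom)
    (g := WittExt.ev (χ z) (χ' z)) (fun r => by simp [two, WittExt.ev]) fun i => by
      fin_cases i <;> simp [two, WittExt.ev]) c

omit [IsAlgClosed k] [IsDomain A] [Algebra.FiniteType k A] [Coalgebra.IsCocomm k A] in
theorem isPrim_zero : IsPrim k (0 : A) := by simp [IsPrim]

theorem exists_merge (p : ℕ) [Fact p.Prime] [CharP k p] (hdim : ringKrullDim A = (1 : ℕ)) {a b : A}
    (ha : ∃ z, IsPrim k z ∧ a ∈ Algebra.adjoin k {z}) (hb : ∃ z, IsPrim k z ∧ b ∈ Algebra.adjoin k {z}) :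
    ∃ z, IsPrim k z ∧ a ∈ Algebra.adjoin k {z} ∧ b ∈ Algebra.adjoin k {z} := by
  obtain ⟨z₁, h₁, ha⟩ := ha
  obtain ⟨z₂, h₂, hb⟩ := hb
  obtain ⟨z, hz, e₁, e₂⟩ := exists_single p hdim h₁ h₂
  exact ⟨z, hz, Algebra.adjoin_le (Set.singleton_subset_iff.2 e₁) ha, Algebra.adjoin_le (Set.singleton_subset_iff.2 e₂) hb⟩

variable (hkill : ∀ a : A, nI k A p a = algebraMap k A (counit (R := k) a))

include hkill in
theorem char_pow_p (χ : WithConv (A →ₐ[k] k)) : χ ^ p = 1 := by
  apply WithConv.ofConv_injective
  rw [← comp_nI k A χ.ofConv p]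
  refine AlgHom.ext fun a => ?_
  rw [AlgHom.comp_apply, hkill, AlgHom.commutes]
  rfl

include hkill in
/-- A cocycle step. -/
theorem exists_mem_adjoin_of_delta (hdim : ringKrullDim A = (1 : ℕ)) {z : A} (hz : IsPrim k z) (hz0 : z ≠ 0) {a : A}
    (ha : counit (R := k) a = 0)
    (hc : comul (R := k) a - a ⊗ₜ[k] 1 - 1 ⊗ₜ[k] a ∈ (two k z).range) :
    ∃ w, IsPrim k w ∧ a ∈ Algebra.adjoin k {w} := by
  classical
  haveI : Infinite k := IsAlgClosed.instInfinite
  obtain ⟨c, hc : two k z c = _⟩ := hc
  have hval : ∀ χ χ' : WithConv (A →ₐ[k] k), WittExt.ev (χ.ofConv z) (χ'.ofConv z) c =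
      (χ * χ').ofConv a - χ.ofConv a - χ'.ofConv a := fun χ χ' => by
    rw [← lift_two, hc]
    show _ = (χ * χ') a - _ - _
    rw [AlgHom.convMul_apply, map_sub, map_sub, Algebra.TensorProduct.lift_tmul, Algebra.TensorProduct.lift_tmul,
      map_one, map_one, _root_.mul_one, _root_.one_mul]
  let Γ : Set k := Set.range fun χ : WithConv (A →ₐ[k] k) => χ.ofConv z
  have hΓ : Γ.Infinite := fun hfin => hz0 (hz.eq_zero_of_aeval
    (Finset.prod_ne_zero_iff.2 fun g (_ : g ∈ hfin.toFinset) => Polynomial.X_sub_C_ne_zero g)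
    (eq_zero_of_forall_char (k := k) fun χ => by
      rw [← Polynomial.aeval_algHom_apply, map_prod]
      exact Finset.prod_eq_zero (hfin.mem_toFinset.2 ⟨toConv χ, rfl⟩) (by simp)))
  have hext : ∀ P : MvPolynomial (Fin 2) k,
      (∀ χ χ' : WithConv (A →ₐ[k] k), WittExt.ev (χ.ofConv z) (χ'.ofConv z) P = 0) → P = 0 := fun P h => by
    refine MvPolynomial.funext_set (fun _ => Γ) (fun _ => hΓ) fun v hv => ?_
    obtain ⟨χ, h0⟩ := hv 0 trivial
    obtain ⟨χ', h1⟩ := hv 1 trivial
    rw [map_zero, ← h χ χ']
    exact congrArg (fun w => MvPolynomial.eval w P) (funext fun i => by fin_cases i <;> simp [← h0, ← h1])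
  have hz1 : (1 : WithConv (A →ₐ[k] k)).ofConv z = 0 := (AlgHom.convOne_apply z).trans (by rw [hz.counit_eq_zero, map_zero])
  have ha1 : (1 : WithConv (A →ₐ[k] k)).ofConv a = 0 := (AlgHom.convOne_apply a).trans (by rw [ha, map_zero])
  have h0 : ∀ x, WittExt.ev x 0 c = 0 := by
    intro x
    have hq : MvPolynomial.aeval ![Polynomial.X, (0 : Polynomial k)] c = 0 := by
      refine Polynomial.eq_zero_of_infinite_isRoot _ (hΓ.mono ?_)
      rintro _ ⟨χ, rfl⟩
      show Polynomial.eval _ _ = 0
      have h := hval χ 1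
      rw [hz1, ha1, _root_.mul_one, sub_zero, sub_self] at h
      refine Eq.trans (RingHom.congr_fun (MvPolynomial.ringHom_ext
        (f := (Polynomial.evalRingHom (χ.ofConv z)).comp (MvPolynomial.aeval ![Polynomial.X, (0 : Polynomial k)]).toRingHom)
        (g := WittExt.ev (χ.ofConv z) 0) (fun r => by simp [WittExt.ev]) fun i => by fin_cases i <;> simp [WittExt.ev]) c) h
    have h := congrArg (Polynomial.eval x) hq
    rw [Polynomial.eval_zero] at h
    refine Eq.trans ?_ h
    exact (RingHom.congr_fun (MvPolynomial.ringHom_ext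
      (f := (Polynomial.evalRingHom x).comp (MvPolynomial.aeval ![Polynomial.X, (0 : Polynomial k)]).toRingHom)
      (g := WittExt.ev x 0) (fun r => by simp [WittExt.ev]) fun i => by fin_cases i <;> simp [WittExt.ev]) c).symm
  have hs : ∀ x y, WittExt.ev y x c = WittExt.ev x y c := by
    intro x y
    have h := hext (GaSplit.at2 (MvPolynomial.X 1 : MvPolynomial (Fin 2) k) (MvPolynomial.X 0) c - c) fun χ χ' => by
      rw [map_sub, WittExt.ev, WittExt.eval_at2]
      simp only [MvPolynomial.eval_X]
      show WittExt.ev (χ'.ofConv z) (χ.ofConv z) c - WittExt.ev (χ.ofConv z) (χ'.ofConv z) c = 0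
      rw [hval, hval, mul_comm χ' χ]
      ring
    have h' := congrArg (WittExt.ev x y) h
    rw [map_sub, map_zero, WittExt.ev, WittExt.eval_at2] at h'
    simpa [MvPolynomial.eval_X, sub_eq_zero, WittExt.ev] using h'
  have hcoc : ∀ x y w, WittExt.ev y w c + WittExt.ev x (y + w) c = WittExt.ev (x + y) w c + WittExt.ev x y c := by
    intro x y w
    let X3 : Fin 3 → MvPolynomial (Fin 3) k := MvPolynomial.X
    let T := GaSplit.at2 (X3 1) (X3 2) c + GaSplit.at2 (X3 0) (X3 1 + X3 2) c -
      GaSplit.at2 (X3 0 + X3 1) (X3 2) c - GaSplit.at2 (X3 0) (X3 1) c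
    have hT : T = 0 := by
      refine MvPolynomial.funext_set (fun _ => Γ) (fun _ => hΓ) fun v hv => ?_
      obtain ⟨χ₀, e0⟩ := hv 0 trivial
      obtain ⟨χ₁, e1⟩ := hv 1 trivial
      obtain ⟨χ₂, e2⟩ := hv 2 trivial
      dsimp only at e0 e1 e2
      simp only [T, X3, map_sub, map_add, map_zero, WittExt.eval_at2, MvPolynomial.eval_X, ← e0, ← e1, ← e2,
        ← apply_mul_of_prim hz, hval, _root_.mul_assoc]
      ring
    have h := congrArg (MvPolynomial.eval ![x, y, w]) hT
    simp only [T, X3, map_sub, map_add, map_zero, WittExt.eval_at2, MvPolynomial.eval_X] at h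
    simp only [Matrix.cons_val_zero, Matrix.cons_val_one, Matrix.cons_val] at h
    linear_combination h
  obtain ⟨N, coef, P, hP⟩ := WittExt.exists_decomp (p := p) c h0 hs hcoc
  have hCw : WittExt.ev (0 : k) 0 (WittExt.Cw p k) = 0 := by
    rw [WittExt.ev_Cw, WittExt.hd_zero, add_zero, TruncatedWittVector.coeff_zero]
  have hP0 : P.eval 0 = 0 := by
    have h := hP 0 0
    rw [h0, hCw, Finset.sum_eq_zero (fun e _ => by rw [zero_pow (pow_ne_zero _ (Fact.out (p := p.Prime)).ne_zero),
      mul_zero])] at h
    simp only [add_zero, add_sub_cancel_right, zero_add] at h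
    exact h.symm
  have hvan : ∀ e < N, coef e = 0 := by
    have hS : ∀ χ : WithConv (A →ₐ[k] k), ∀ m : ℕ, ∃ S : k,
        m • WittExt.hd p 2 (χ.ofConv z) = WittExt.hd p 2 ((χ ^ m).ofConv z) + WittHom.emb 1 S ∧
        (χ ^ m).ofConv a + P.eval ((χ ^ m).ofConv z) =
          m • (χ.ofConv a + P.eval (χ.ofConv z)) + ∑ e ∈ Finset.range N, coef e * S ^ p ^ e := by
      intro χ m
      haveI : ExpChar k p := ExpChar.prime (Fact.out (p := p.Prime))
      induction m with
      | zero =>
        refine ⟨0, ?_, ?_⟩
        · rw [zero_smul, pow_zero, hz1, WittExt.hd_zero, zero_add]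
          exact (TruncatedWittVector.ext fun i => by simp [WittHom.coeff_emb])
        · rw [pow_zero, hz1, ha1, hP0, zero_smul, Finset.sum_eq_zero (fun e _ => by
            rw [zero_pow (pow_ne_zero _ (Fact.out (p := p.Prime)).ne_zero), mul_zero])]
      | succ m ih =>
        obtain ⟨S, hS1, hS2⟩ := ih
        have hzm : (χ ^ (m + 1)).ofConv z = (χ ^ m).ofConv z + χ.ofConv z := by rw [pow_succ, apply_mul_of_prim hz]
        refine ⟨S + WittExt.ev ((χ ^ m).ofConv z) (χ.ofConv z) (WittExt.Cw p k), ?_, ?_⟩
        · rw [succ_nsmul, hS1, hzm, WittHom.emb_add, add_assoc, add_comm (WittHom.emb 1 S), ← add_assoc,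
            WittExt.hd_add_eq, add_comm (WittHom.emb 1 S), add_assoc]
        · have h := hval (χ ^ m) χ
          rw [← pow_succ, hP] at h
          simp only [add_pow_char_pow, mul_add, Finset.sum_add_distrib, succ_nsmul, hzm]
          linear_combination hS2 - h
    have hsum : ∀ t ∈ Γ, (∑ e ∈ Finset.range N, Polynomial.C (coef e) * Polynomial.X ^ p ^ (e + 1)).eval t = 0 := by
      rintro _ ⟨χ, rfl⟩
      obtain ⟨S, hS1, hS2⟩ := hS χ p
      rw [char_pow_p hkill, hz1] at hS1 hS2
      rw [ha1, hP0, nsmul_eq_mul, CharP.cast_eq_zero, zero_mul, zero_add, zero_add] at hS2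
      rw [WittExt.hd_zero, zero_add] at hS1
      have hSt : S = χ.ofConv z ^ p := by
        rw [← p_smul_hd (p := p) (χ.ofConv z), hS1, WittHom.coeff_emb, if_pos (by simp)]
      rw [Polynomial.eval_finsetSum, hS2]
      refine Finset.sum_congr rfl fun e _ => ?_
      rw [Polynomial.eval_mul, Polynomial.eval_C, Polynomial.eval_pow, Polynomial.eval_X, hSt, ← pow_mul, ← pow_succ']
    have hzero := Polynomial.eq_zero_of_infinite_isRoot _ (hΓ.mono hsum)
    intro e he
    have h := congrArg (fun f : Polynomial k => f.coeff (p ^ (e + 1))) hzero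
    simp only [Polynomial.finsetSum_coeff, Polynomial.coeff_C_mul_X_pow, Polynomial.coeff_zero] at h
    rw [Finset.sum_eq_single e (fun i _ hi => if_neg fun h' => hi (by
      have := Nat.pow_right_injective (Fact.out (p := p.Prime)).two_le h'
      omega)) (fun hh => absurd (Finset.mem_range.2 he) hh), if_pos rfl] at h
    exact h
  have hcP : c = Polynomial.aeval (MvPolynomial.X 0) P + Polynomial.aeval (MvPolynomial.X 1) P -
      Polynomial.aeval (MvPolynomial.X 0 + MvPolynomial.X 1 : MvPolynomial (Fin 2) k) P := MvPolynomial.funext fun v => by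
    have hv : ![v 0, v 1] = v := funext fun i => by fin_cases i <;> rfl
    have h := hP (v 0) (v 1)
    rw [Finset.sum_eq_zero (fun e he => by rw [hvan e (Finset.mem_range.1 he), zero_mul]), zero_add, WittExt.ev, hv] at h
    rw [h]
    have hev : ∀ f : MvPolynomial (Fin 2) k, MvPolynomial.eval v (Polynomial.aeval f P) = P.eval (MvPolynomial.eval v f) := fun f => by
      have := (Polynomial.aeval_algHom_apply (MvPolynomial.aeval v) f P).symm
      simpa [MvPolynomial.aeval_eq_eval] using this
    simp only [map_add, map_sub, hev, MvPolynomial.eval_X]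
  let w := a + Polynomial.aeval z P
  have hw : IsPrim k w := by
    have e0 : ∀ f : Polynomial k, two k z (Polynomial.aeval (MvPolynomial.X 0) f) =
        Polynomial.aeval z f ⊗ₜ[k] (1 : A) := fun f => by
      rw [← Polynomial.aeval_algHom_apply, show two k z (MvPolynomial.X 0) =
        Algebra.TensorProduct.includeLeft (R := k) (S := k) (B := A) z by simp [two], Polynomial.aeval_algHom_apply]
      rfl
    have e1 : ∀ f : Polynomial k, two k z (Polynomial.aeval (MvPolynomial.X 1) f) =
        (1 : A) ⊗ₜ[k] Polynomial.aeval z f := fun f => by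
      rw [← Polynomial.aeval_algHom_apply, show two k z (MvPolynomial.X 1) =
        Algebra.TensorProduct.includeRight (R := k) (A := A) z by simp [two], Polynomial.aeval_algHom_apply]
      rfl
    have e2 : two k z (Polynomial.aeval (MvPolynomial.X 0 + MvPolynomial.X 1 : MvPolynomial (Fin 2) k) P) =
        comul (R := k) (Polynomial.aeval z P) := by
      rw [← Polynomial.aeval_algHom_apply, ← Bialgebra.comulAlgHom_apply, ← Polynomial.aeval_algHom_apply,
        Bialgebra.comulAlgHom_apply, hz, map_add]
      simp [two]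
    have h := hc
    rw [hcP, map_sub, map_add, e0, e1, e2] at h
    show comul (R := k) (a + Polynomial.aeval z P) = _
    rw [map_add, TensorProduct.add_tmul, TensorProduct.tmul_add]
    linear_combination -h
  obtain ⟨u, hu, hwu, hzu⟩ := exists_single p hdim hw hz
  refine ⟨u, hu, ?_⟩
  rw [show a = w - Polynomial.aeval z P from (add_sub_cancel_right _ _).symm]
  refine sub_mem hwu ?_
  exact Algebra.adjoin_le (Set.singleton_subset_iff.2 hzu) (Polynomial.aeval_mem_adjoin_singleton _ _)

include hkill in
/-- The coordinate ring of a one-dimensional group is generated by one primitive function. -/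
theorem exists_generator (hdim : ringKrullDim A = (1 : ℕ)) :
    ∃ z : A, IsPrim k z ∧ z ≠ 0 ∧ Algebra.adjoin k {z} = ⊤ := by
  classical
  have hN : ∃ N : ℕ, ∀ a, nI k A (p ^ N) a = algebraMap k A (counit (R := k) a) := ⟨1, by simpa using hkill⟩
  have hA : ¬ Function.Surjective (algebraMap k A) := fun hs => by
    haveI : Nontrivial A := (Bialgebra.counitAlgHom k A).toRingHom.domain_nontrivial
    have h := ringKrullDim_le_of_surjective (algebraMap k A) hs
    rw [hdim, ringKrullDim_eq_zero_of_field] at h
    exact absurd h (by norm_num)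
  obtain ⟨x₀, hx₀, hx₀p⟩ := exists_prim (p := p) (k := k) (A := A) hN hA
  have hcon := isConil k A p hN
  have main : ∀ (n : ℕ) (a : A), a ∈ UnipConil.filt k A n → ∃ z, IsPrim k z ∧ a ∈ Algebra.adjoin k {z} := by
    intro n
    induction n with
    | zero =>
      intro a ha
      obtain ⟨c, rfl⟩ := Submodule.mem_span_singleton.mp ha
      exact ⟨0, isPrim_zero, Subalgebra.smul_mem _ (one_mem _) c⟩
    | succ n ih =>
      intro a ha
      let a₀ := a - counit (R := k) a • (1 : A)
      have ha₀ : a₀ ∈ UnipConil.filt k A (n + 1) :=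
        sub_mem ha (Submodule.smul_mem _ _ (UnipConil.one_mem_filt (n + 1)))
      have hε : counit (R := k) a₀ = 0 := by simp [a₀]
      have hmem : comul (R := k) a₀ - a₀ ⊗ₜ[k] 1 - 1 ⊗ₜ[k] a₀ ∈
          LinearMap.range (TensorProduct.map (UnipConil.filt k A n).subtype (UnipConil.filt k A n).subtype) := by
        refine (mem_range_map_iff _ _ _).mpr ⟨fun f => ?_, fun f => ?_⟩
        · have hf : (f - f 1 • counit (R := k) (A := A)) 1 = 0 := by simp
          have h := UnipConil.cR_mem ha₀ hf
          have e : ∀ t : A ⊗[k] A, cR (f - f 1 • counit (R := k) (A := A)) t =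
              cR f t - f 1 • cR (counit (R := k) (A := A)) t := fun t => by
            induction t using TensorProduct.induction_on with
            | zero => simp
            | tmul x y => simp [sub_smul, smul_smul]
            | add x y hx hy => simp only [map_add, hx, hy, smul_add]; abel
          have hc : cR (counit (R := k) (A := A)) (comul (R := k) a₀) = a₀ := by
            show TensorProduct.rid k A ((counit (R := k) (A := A)).lTensor A (comul (R := k) a₀)) = a₀
            simp
          rw [e, hc] at h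
          rw [map_sub, map_sub, cR_tmul, cR_tmul]
          exact sub_mem h (Submodule.smul_mem _ _ (UnipConil.one_mem_filt n))
        · have hf : (f - f 1 • counit (R := k) (A := A)) 1 = 0 := by simp
          have h := UnipConil.cL_mem ha₀ hf
          have e : ∀ t : A ⊗[k] A, cL (f - f 1 • counit (R := k) (A := A)) t =
              cL f t - f 1 • cL (counit (R := k) (A := A)) t := fun t => by
            induction t using TensorProduct.induction_on with
            | zero => simp
            | tmul x y => simp [sub_smul, smul_smul]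
            | add x y hx hy => simp only [map_add, hx, hy, smul_add]; abel
          have hc : cL (counit (R := k) (A := A)) (comul (R := k) a₀) = a₀ := by
            show TensorProduct.lid k A ((counit (R := k) (A := A)).rTensor A (comul (R := k) a₀)) = a₀
            simp
          rw [e, hc] at h
          rw [map_sub, map_sub, cL_tmul, cL_tmul, sub_right_comm]
          exact sub_mem h (Submodule.smul_mem _ _ (UnipConil.one_mem_filt n))
      obtain ⟨t, ht⟩ := hmem
      have hz : ∀ s, ∃ z, IsPrim k z ∧
          TensorProduct.map (UnipConil.filt k A n).subtype (UnipConil.filt k A n).subtype s ∈ (two k z).range := by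
        intro s
        induction s using TensorProduct.induction_on with
        | zero => exact ⟨0, isPrim_zero, by rw [map_zero]; exact zero_mem _⟩
        | tmul u v =>
          obtain ⟨z, hz, hu, hv⟩ := exists_merge p hdim (ih u u.2) (ih v v.2)
          exact ⟨z, hz, by rw [TensorProduct.map_tmul]; exact tmul_mem_two hu hv⟩
        | add u v hu hv =>
          obtain ⟨z₁, h₁, hu⟩ := hu
          obtain ⟨z₂, h₂, hv⟩ := hv
          obtain ⟨z, hz, e₁, e₂⟩ := exists_single p hdim h₁ h₂
          exact ⟨z, hz, by rw [map_add]; exact add_mem (two_range_mono e₁ hu) (two_range_mono e₂ hv)⟩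
      obtain ⟨z₁, hz₁, ht'⟩ := hz t
      rw [ht] at ht'
      obtain ⟨z, hz, e₁, e₂⟩ := exists_single p hdim hz₁ hx₀p
      have hz0 : z ≠ 0 := by
        rintro rfl
        rw [Algebra.adjoin_singleton_zero, Algebra.mem_bot] at e₂
        obtain ⟨c, hc⟩ := e₂
        have := IsPrim.counit_eq_zero hx₀p
        rw [← hc, Bialgebra.counit_algebraMap] at this
        exact hx₀ (by rw [← hc, this, map_zero])
      obtain ⟨w, hw, haw⟩ := exists_mem_adjoin_of_delta hkill hdim hz hz0 hε (two_range_mono e₁ ht')
      refine ⟨w, hw, ?_⟩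
      rw [show a = a₀ + counit (R := k) a • (1 : A) from (sub_add_cancel _ _).symm]
      exact add_mem haw (Subalgebra.smul_mem _ (one_mem _) _)
  obtain ⟨s, hs⟩ := (inferInstance : Algebra.FiniteType k A).out
  have hall : ∀ t : Finset A, ∃ z, IsPrim k z ∧ z ≠ 0 ∧ ∀ a ∈ t, a ∈ Algebra.adjoin k {z} := by
    intro t
    induction t using Finset.induction_on with
    | empty => exact ⟨x₀, hx₀p, hx₀, fun a ha => absurd ha (Finset.notMem_empty a)⟩
    | insert a t hat ih =>
      obtain ⟨z₁, h₁, h₁0, ht⟩ := ih
      obtain ⟨n, hn⟩ := hcon a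
      obtain ⟨z₂, h₂, ha⟩ := main n a hn
      obtain ⟨z, hz, e₁, e₂⟩ := exists_single p hdim h₁ h₂
      have hz0 : z ≠ 0 := by
        rintro rfl
        rw [Algebra.adjoin_singleton_zero, Algebra.mem_bot] at e₁
        obtain ⟨c, hc⟩ := e₁
        have := IsPrim.counit_eq_zero h₁
        rw [← hc, Bialgebra.counit_algebraMap] at this
        exact h₁0 (by rw [← hc, this, map_zero])
      refine ⟨z, hz, hz0, fun b hb => ?_⟩
      rcases Finset.mem_insert.1 hb with rfl | hb
      · exact Algebra.adjoin_le (Set.singleton_subset_iff.2 e₂) ha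
      · exact Algebra.adjoin_le (Set.singleton_subset_iff.2 e₁) (ht b hb)
  obtain ⟨z, hz, hz0, hzs⟩ := hall s
  exact ⟨z, hz, hz0, top_le_iff.1 (hs ▸ Algebra.adjoin_le hzs)⟩

variable (p) in
/-- A one-dimensional connected commutative unipotent group is `W_1`. -/
theorem exists_iso_W_one (G : UG p k) (h : G.dm = 1) :
    ∃ e : G.X ≅ WittGrp.W p 1 (Spec (CommRingCat.of k)), IsMonHom e.hom ∧ IsMonHom e.inv := by
  obtain ⟨B, _, _, e, he, _, _, _, _⟩ := exists_coordHopf G.X
  haveI := he
  have hdim : ringKrullDim B = (1 : ℕ) := by rw [← topologicalKrullDim_eq e, G.topologicalKrullDim_eq, h]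
  have hkill : ∀ b : B, nI k B p b = algebraMap k B (counit (R := k) b) := by
    have := (id_pow_eq_one_iff e _).1 (pow_p_pow_dim p G.X G.hasNoSubtorus 1 (by rw [G.topologicalKrullDim_eq, h]))
    simpa using this
  obtain ⟨z, hz, hz0, hgen⟩ := exists_generator hkill hdim
  let φ := fnMor (p := p) e fun _ : Fin 1 => z
  haveI hφ : IsMonHom φ := isMonHom_fnMor e hz
  haveI := WittHom.isAffine_W (p := p) (k := k) 1
  haveI : IsIso φ := by
    haveI : IsIso e.inv.left := inferInstanceAs (IsIso ((Over.forget _).map e.inv))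
    let φ₀ : sp k B ⟶ WittGrp.W p 1 (Spec (CommRingCat.of k)) := ((WittGrp.pts p (sp k B)).symm
      (TruncatedWittVector.mk p fun _ => (Scheme.ΓSpecIso (CommRingCat.of B)).inv z)).toMul
    haveI : IsAffine (sp k B).left := inferInstanceAs (IsAffine (Spec (CommRingCat.of B)))
    haveI : IsIso φ₀.left.appTop := by
      rw [ConcreteCategory.isIso_iff_bijective]
      have hE := WittHom.bijective_E_id (p := p) (k := k) (n := 1)
      let g : MvPolynomial (Fin 1) k →ₐ[k] B := MvPolynomial.aeval fun _ => z
      have hgbij : Function.Bijective g := by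
        refine ⟨(injective_iff_map_eq_zero _).2 fun f hf => ?_, fun b => ?_⟩
        · obtain ⟨P, rfl⟩ : ∃ P : Polynomial k, Polynomial.aeval (MvPolynomial.X (0 : Fin 1)) P = f := by
            refine ⟨MvPolynomial.aeval (fun _ => Polynomial.X) f, ?_⟩
            refine AlgHom.congr_fun (φ₁ := (Polynomial.aeval (MvPolynomial.X (0 : Fin 1) : MvPolynomial (Fin 1) k)).comp
              (MvPolynomial.aeval fun _ : Fin 1 => (Polynomial.X : Polynomial k))) (φ₂ := AlgHom.id k _) ?_ f
            refine MvPolynomial.algHom_ext fun i => ?_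
            rw [Fin.fin_one_eq_zero i]
            simp
          rw [← Polynomial.aeval_algHom_apply, MvPolynomial.aeval_X] at hf
          by_contra hP
          exact hz0 (hz.eq_zero_of_aeval (fun h0 => hP (by rw [h0, map_zero])) hf)
        · have hb : b ∈ Algebra.adjoin k {z} := hgen ▸ Algebra.mem_top
          rw [Algebra.adjoin_singleton_eq_range_aeval] at hb
          obtain ⟨P, rfl⟩ := hb
          exact ⟨Polynomial.aeval (MvPolynomial.X 0) P, by rw [← Polynomial.aeval_algHom_apply]; simp [g]⟩
      have hcomp : φ₀.left.appTop.hom.comp (WittHom.E (WittGrp.W p 1 (Spec (CommRingCat.of k))) (𝟙 _)) =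
          (Scheme.ΓSpecIso (CommRingCat.of B)).inv.hom.comp g.toRingHom := by
        rw [WittHom.appTop_E, Category.comp_id]
        refine MvPolynomial.ringHom_ext (fun r => ?_) fun i => ?_
        · simp only [WittHom.E, MvPolynomial.eval₂Hom_C]
          show _ = (Scheme.ΓSpecIso (CommRingCat.of B)).inv (g (MvPolynomial.C r))
          rw [show g (MvPolynomial.C r) = algebraMap k B r by simp [g], WittHom.kΓ]
          exact (RingHom.congr_fun (congrArg CommRingCat.Hom.hom
            (Scheme.ΓSpecIso_inv_naturality (CommRingCat.ofHom (algebraMap k B)))) r).symm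
        · simp only [WittHom.E, MvPolynomial.eval₂Hom_X']
          show _ = (Scheme.ΓSpecIso (CommRingCat.of B)).inv (g (MvPolynomial.X i))
          rw [show g (MvPolynomial.X i) = z by simp [g]]
          simp [φ₀, WittHom.crd]
      have hbij : Function.Bijective (φ₀.left.appTop.hom.comp (WittHom.E (WittGrp.W p 1 (Spec (CommRingCat.of k))) (𝟙 _))) := by
        rw [hcomp]
        exact ((Scheme.ΓSpecIso (CommRingCat.of B)).symm.commRingCatIsoToRingEquiv.bijective).comp hgbij
      exact (Function.Bijective.of_comp_iff _ hE).1 hbij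
    haveI : IsIso φ₀.left := by
      haveI : IsIso (Spec.map φ₀.left.appTop) := inferInstance
      have h' : φ₀.left = (sp k B).left.isoSpec.hom ≫ Spec.map φ₀.left.appTop ≫ (WittGrp.W p 1 (Spec (CommRingCat.of k))).left.isoSpec.inv := by
        rw [← Category.assoc, Scheme.isoSpec_hom_naturality φ₀.left, Category.assoc, Iso.hom_inv_id, Category.comp_id]
      rw [h']
      infer_instance
    haveI : IsIso φ.left := inferInstanceAs (IsIso (e.inv.left ≫ φ₀.left))
    haveI : IsIso ((Over.forget _).map φ) := inferInstanceAs (IsIso φ.left)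
    exact isIso_of_reflects_iso φ (Over.forget _)
  refine ⟨asIso φ, hφ, ?_⟩
  haveI : IsMonHom (asIso φ).hom := hφ
  infer_instance

end Groth.Agent.WittUnip
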