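import Groth.Agent.WittUnip.Sect
import Groth.Agent.WittUnip.OneDim
import Groth.Agent.WittExt.Section
import Groth.Agent.Takeuchi.Quot
import Groth.Agent.AdjRep.KerObj
import Groth.Agent.S7983
import Groth.Agent.S3280
import Groth.Agent.S12170

/-!
# Quotients, bottom and top one-dimensional pieces
-/

set_option autoImplicit false
set_option linter.style.haveILetI false
set_option linter.unusedSectionVars false
set_option backward.isDefEq.respectTransparency.types false

universe u

open CategoryTheory CategoryTheory.Limits MonoidalCategory CartesianMonoidalCategory MonObj GrpObj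
open AlgebraicGeometry TopologicalSpace

noncomputable section

namespace Groth.Agent.WittUnip

variable {p : ℕ} [Fact p.Prime] {k : Type u} [Field k] [IsAlgClosed k]

/-- The quotient by a closed subgroup. -/
theorem exists_quotient (G : UG p k) {N : Over (Spec (CommRingCat.of k))} [GrpObj N] (i : N ⟶ G.X) [IsMonHom i]
    [IsClosedImmersion i.left] :
    ∃ (Q : UG p k) (q : G.X ⟶ Q.X), IsMonHom q ∧ Flat q.left ∧ Surjective q.left ∧ AlgGrp.IsKernel i q := by
  obtain ⟨Q, hQ, q, hq, haff, hlft, hflat, hsurj, hker⟩ := Takeuchi.exists_affine_quotient G.X N i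
    fun T g n => ⟨n, by rw [mul_comm g, mul_inv_cancel_right]⟩
  letI := hQ
  haveI := hq
  haveI := haff
  haveI := hlft
  haveI := hflat
  haveI := hsurj
  haveI : IsAffineHom Q.hom := isAffineHom_of_isAffine Q.hom
  obtain ⟨-, hsm, hconn⟩ := Groth.Agent.S7983.result k G.X Q q
  haveI := hsm G.smooth
  haveI := hconn G.conn
  have hpts : ∀ a b : 𝟙_ (Over (Spec (CommRingCat.of k))) ⟶ Q, a * b = b * a := fun a b => by
    obtain ⟨a, rfl⟩ := exists_pt_lift q a
    obtain ⟨b, rfl⟩ := exists_pt_lift q b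
    rw [← MonObj.mul_comp, ← MonObj.mul_comp, mul_comm]
  haveI : IsReduced (Q ⊗ Q).left := isReduced_tensor
  haveI : LocallyOfFiniteType (Q ⊗ Q).hom := by
    show LocallyOfFiniteType (pullback.fst Q.hom Q.hom ≫ Q.hom)
    infer_instance
  have huniv : fst Q Q * snd Q Q = snd Q Q * fst Q Q := hom_ext_pt fun a => by
    simp only [MonObj.comp_mul]
    exact hpts _ _
  haveI : IsCommMonObj Q := isCommMonObj_iff_isMulCommutative _ |>.2 fun T => ⟨⟨fun a b => by
    have h := congrArg (lift a b ≫ ·) huniv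
    simpa [MonObj.comp_mul] using h⟩⟩
  haveI : IsReduced Q.left := SmoothRed.isReduced_of_smooth_scheme Q.hom
  have hkill : ∃ N : ℕ, (𝟙 Q) ^ (p ^ N) = 1 := by
    obtain ⟨m, hm⟩ := G.killed
    refine ⟨m, hom_ext_pt fun b => ?_⟩
    obtain ⟨a, rfl⟩ := exists_pt_lift q b
    rw [MonObj.comp_pow, MonObj.comp_one, Category.comp_id, ← MonObj.pow_comp]
    have h := congrArg (a ≫ ·) hm
    rw [MonObj.comp_pow, MonObj.comp_one, Category.comp_id] at h
    rw [h, MonObj.one_comp]
  exact ⟨UG.of Q hkill, q, hq, hflat, hsurj, hker⟩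

/-- Kernels on rational points. -/
theorem exists_pt_of_ker {G Q N : Over (Spec (CommRingCat.of k))} [GrpObj Q] {i : N ⟶ G} {q : G ⟶ Q}
    (h : AlgGrp.IsKernel i q) {T : Over (Spec (CommRingCat.of k))} {a : T ⟶ G} (ha : a ≫ q = 1) :
    ∃ n : T ⟶ N, n ≫ i = a :=
  ⟨h.lift a (toUnit _) (by rw [ha, Hom.one_def]), h.lift_fst _ _ _⟩

/-- A group without rational points other than the unit has dimension zero. -/
theorem surjective_of_dm_zero {G : UG p k} {H : Over (Spec (CommRingCat.of k))} [LocallyOfFiniteType H.hom]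
    [QuasiCompact H.hom] [GrpObj H] (f : H ⟶ G.X) [IsMonHom f] (h : G.dm = 0) : Surjective f.left :=
  surjective_of_pt f fun b => ⟨1, by rw [MonObj.one_comp, eq_one_of_dm_zero h b]⟩

variable [CharP k p]

/-- The scheme underlying `W_1` has a nontrivial point. -/
theorem exists_pt_ne_one : ∃ a : 𝟙_ (Over (Spec (CommRingCat.of k))) ⟶ WittGrp.W p 1 (Spec (CommRingCat.of k)), a ≠ 1 := by
  refine ⟨WittHom.pt (TruncatedWittVector.mk p fun _ => (1 : k)), fun h => ?_⟩
  have h' := congrArg WittSub.val h
  rw [WittHom.val_pt, WittExt.val_one] at h'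
  have h'' := congrArg (fun v : WittHom.TW p 1 k => v.coeff 0) h'
  simp only [TruncatedWittVector.coeff_mk, TruncatedWittVector.coeff_zero] at h''
  exact one_ne_zero h''

/-- Every positive dimensional group contains `W_1`. -/
theorem exists_bottom (G : UG p k) (h : 1 ≤ G.dm) :
    ∃ i : WittGrp.W p 1 (Spec (CommRingCat.of k)) ⟶ G.X, IsMonHom i ∧ IsClosedImmersion i.left := by
  induction hd : G.dm using Nat.strong_induction_on generalizing G with
  | _ d ih =>
    rcases Nat.lt_or_ge G.dm 2 with h2 | h2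
    · obtain ⟨e, he, hei⟩ := exists_iso_W_one p G (by omega)
      haveI : IsIso e.inv.left := inferInstanceAs (IsIso ((Over.forget _).map e.inv))
      exact ⟨e.inv, hei, inferInstance⟩
    · obtain ⟨H, j, hj, hjc, h1, hlt⟩ := exists_proper_sub G h2
      haveI := hj
      haveI := hjc
      obtain ⟨i, hi, hic⟩ := ih H.dm (hd ▸ hlt) H h1 rfl
      haveI := hi
      haveI := hic
      exact ⟨i ≫ j, inferInstance, inferInstanceAs (IsClosedImmersion (i.left ≫ j.left))⟩

/-- The quotient by `W_1`, with a section. -/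
theorem exists_bottom_quotient (G : UG p k) (h : 1 ≤ G.dm) :
    ∃ (Q : UG p k) (q : G.X ⟶ Q.X) (i : WittGrp.W p 1 (Spec (CommRingCat.of k)) ⟶ G.X),
      IsMonHom q ∧ IsMonHom i ∧ IsClosedImmersion i.left ∧ Flat q.left ∧ Surjective q.left ∧
      Nonempty (Sect q i) ∧ Q.dm < G.dm := by
  obtain ⟨i, hi, hic⟩ := exists_bottom G h
  haveI := hi
  haveI := hic
  obtain ⟨Q, q, hq, hflat, hsurj, hker⟩ := exists_quotient G i
  haveI := hq
  haveI := hflat
  haveI := hsurj
  obtain ⟨s, hs⟩ := WittExt.exists_section q i hker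
  obtain ⟨S⟩ := Sect.nonempty_of_section s hs hker
  haveI : IsClosedImmersion S.s.left := by
    haveI : IsClosedImmersion (S.s.left ≫ q.left) := by
      rw [← Over.comp_left, S.sect]
      exact inferInstanceAs (IsClosedImmersion (𝟙 Q.X.left))
    exact IsClosedImmersion.of_comp S.s.left q.left
  refine ⟨Q, q, i, hq, hi, hic, hflat, hsurj, ⟨S⟩, dm_lt G S.s fun hsur => ?_⟩
  obtain ⟨a, ha⟩ := exists_pt_ne_one (p := p) (k := k)
  haveI := hsur
  obtain ⟨x, hx⟩ := exists_pt_lift S.s (a ≫ i)
  have h0 : (a ≫ i) ≫ q = 1 := S.i_comp_π a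
  rw [← hx, Category.assoc, S.sect, Category.comp_id] at h0
  rw [h0, S.norm] at hx
  haveI := S.mono
  exact ha ((cancel_mono i).1 (by rw [← hx, MonObj.one_comp]))

/-- If the quotient by `W_1` is trivial the group is one-dimensional. -/
theorem dm_eq_one_of_quotient {G Q : UG p k} {q : G.X ⟶ Q.X} {i : WittGrp.W p 1 (Spec (CommRingCat.of k)) ⟶ G.X}
    [IsMonHom q] [IsMonHom i] [IsClosedImmersion i.left] (S : Sect q i) (h : Q.dm = 0) :
    G.dm = (UG.W p k 1).dm := by
  haveI := (Groth.Agent.S12182.result p k 1).1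
  haveI := WittHom.isAffine_W (p := p) (k := k) 1
  haveI : Surjective i.left := surjective_of_pt i fun b => ⟨b ≫ S.r, S.comp_r_of_one (eq_one_of_dm_zero h _)⟩
  exact (dm_congr (UG.W p k 1) (H := G)
    (i.left.isClosedEmbedding.isEmbedding.toHomeomorphOfSurjective i.left.surjective)).symm

/-- The dimension of the Witt group. -/
theorem dm_W (n : ℕ) : (UG.W p k n).dm = n := by
  have h := (UG.W p k n).topologicalKrullDim_eq
  have e : topologicalKrullDim ↥𝔸(ULift.{u} (Fin n); Spec (CommRingCat.of k)) = (n : WithBot ℕ∞) := by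
    rw [IsHomeomorph.topologicalKrullDim_eq _
      (AffineSpace.SpecIso (ULift.{u} (Fin n)) (CommRingCat.of k)).hom.homeomorph.isHomeomorph]
    show topologicalKrullDim (PrimeSpectrum (MvPolynomial (ULift.{u} (Fin n)) k)) = _
    rw [PrimeSpectrum.topologicalKrullDim_eq_ringKrullDim, MvPolynomial.ringKrullDim_of_isNoetherianRing,
      ringKrullDim_eq_zero_of_field]
    simp
  have h2 : ((UG.W p k n).dm : WithBot ℕ∞) = (n : WithBot ℕ∞) := h.symm.trans e
  exact_mod_cast h2

/-- The quotient onto `W_1`, with a section and a connected kernel. -/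
theorem exists_top (G : UG p k) (h : 1 ≤ G.dm) :
    ∃ (N : UG p k) (x : G.X ⟶ WittGrp.W p 1 (Spec (CommRingCat.of k))) (j : N.X ⟶ G.X),
      IsMonHom x ∧ IsMonHom j ∧ IsClosedImmersion j.left ∧ Nonempty (Sect x j) ∧ N.dm < G.dm := by
  induction hd : G.dm using Nat.strong_induction_on generalizing G with
  | _ d ih =>
    subst hd
    haveI := (Groth.Agent.S12182.result p k 1).1
    obtain ⟨Q, q, i, hq, hi, hic, hflat, hsurj, ⟨S⟩, hlt⟩ := exists_bottom_quotient G h
    haveI := hq
    haveI := hi
    haveI := hic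
    have hmain : ∃ (N' : UG p k) (y : Q.X ⟶ WittGrp.W p 1 (Spec (CommRingCat.of k))) (j' : N'.X ⟶ Q.X),
        (IsMonHom y ∧ IsMonHom j' ∧ Nonempty (Sect y j')) ∨ G.dm = 1 := by
      rcases Nat.eq_zero_or_pos Q.dm with h0 | h0
      · refine ⟨Q, 1, 𝟙 _, Or.inr ?_⟩
        rw [dm_eq_one_of_quotient S h0, dm_W]
      · obtain ⟨N', y, j', hy, hj', -, hS', -⟩ := ih Q.dm hlt Q h0 rfl
        exact ⟨N', y, j', Or.inl ⟨hy, hj', hS'⟩⟩
    obtain ⟨N', y, j', hor⟩ := hmain
    rcases hor with ⟨hy, hj', ⟨S'⟩⟩ | h1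
    · haveI := hy
      haveI := hj'
      let x : G.X ⟶ WittGrp.W p 1 (Spec (CommRingCat.of k)) := q ≫ y
      haveI hxm : IsMonHom x := inferInstanceAs (IsMonHom (q ≫ y))
      obtain ⟨N, hN, j, hj, hjc, -, hker⟩ := AdjRep.exists_kernel x
      letI := hN
      haveI := hj
      haveI := hjc
      haveI : Mono j := GrpField.SchImg.mono_of_isClosedImmersion j
      haveI : IsCommMonObj N := isCommMonObj_iff_isMulCommutative _ |>.2 fun T => ⟨⟨fun a b => by
        rw [← cancel_mono j, MonObj.mul_comp, MonObj.mul_comp, mul_comm]⟩⟩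
      obtain ⟨π', hπ'⟩ := exists_pt_of_ker S'.ker (a := j ≫ q) (by rw [Category.assoc, show j ≫ x = 1 from by
        rw [hker.w, Hom.one_def]])
      haveI := S'.mono
      haveI : IsMonHom π' := WittGrp.isMonHom_of_comp_mul π'
        (by rw [← cancel_mono j', Category.assoc, hπ', MonObj.one_comp, MonObj.one_comp])
        fun T a b => by
          rw [← cancel_mono j']
          simp only [MonObj.mul_comp, Category.assoc, hπ']
      obtain ⟨i', hi'⟩ := exists_pt_of_ker hker (a := i) (by
        rw [← Category.assoc, show i ≫ q = 1 by simpa using S.i_comp_π (𝟙 _), MonObj.one_comp])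
      haveI : IsMonHom i' := WittGrp.isMonHom_of_comp_mul i'
        (by rw [← cancel_mono j, Category.assoc, hi', MonObj.one_comp, MonObj.one_comp])
        fun T a b => by
          rw [← cancel_mono j]
          simp only [MonObj.mul_comp, Category.assoc, hi']
      obtain ⟨s', hs'⟩ := exists_pt_of_ker hker (a := j' ≫ S.s) (by
        rw [Category.assoc, ← Category.assoc S.s, S.sect, Category.id_comp, S'.ker.w, Hom.one_def])
      have hker' : AlgGrp.IsKernel i' π' := by
        haveI := S.mono
        have hw : i' ≫ π' = toUnit _ ≫ η[N'.X] := by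
          rw [← cancel_mono j', Category.assoc, hπ', ← Category.assoc, hi', ← Hom.one_def, MonObj.one_comp]
          simpa using S.i_comp_π (𝟙 _)
        refine IsPullback.of_isLimit' ⟨hw⟩ (PullbackCone.IsLimit.mk _
          (fun c => S.ker.lift (c.fst ≫ j) c.snd ?_) (fun c => ?_) (fun c => toUnit_unique _ _)
          fun c m hm₁ hm₂ => ?_)
        · rw [Category.assoc, ← hπ', ← Category.assoc, c.condition, Category.assoc, IsMonHom.one_hom]
        · rw [← cancel_mono j, Category.assoc, hi', S.ker.lift_fst]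
        · refine S.ker.hom_ext ?_ (toUnit_unique _ _)
          rw [S.ker.lift_fst, ← hm₁, Category.assoc, hi']
      obtain ⟨SN⟩ := Sect.nonempty_of_section s' (show s' ≫ π' = 𝟙 N'.X by
        rw [← cancel_mono j', Category.assoc, hπ', ← Category.assoc, hs', Category.assoc, S.sect, Category.comp_id,
          Category.id_comp]) hker'
      haveI : LocallyOfFiniteType N.hom := by rw [← Over.w j]; infer_instance
      let NU : UG p k := UG.ext (UG.W p k 1) N' N (π := π') (i := i') SN
      obtain ⟨Sx⟩ := Sect.nonempty_of_section (S'.s ≫ S.s) (show (S'.s ≫ S.s) ≫ x = 𝟙 _ by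
        rw [Category.assoc, ← Category.assoc S.s, S.sect, Category.id_comp, S'.sect]) hker
      refine ⟨NU, x, j, hxm, hj, hjc, ⟨Sx⟩, dm_lt G (H := NU) j fun hs => ?_⟩
      haveI := hs
      obtain ⟨a, ha⟩ := exists_pt_ne_one (p := p) (k := k)
      obtain ⟨n, hn⟩ := exists_pt_lift j (a ≫ Sx.s)
      refine ha ?_
      have h2 := congrArg (· ≫ x) hn
      simp only [Category.assoc, Sx.sect, Category.comp_id] at h2
      rw [← h2, hker.w, ← Category.assoc, toUnit_unique (n ≫ toUnit _) (toUnit _), Hom.one_def]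
    · obtain ⟨e, he, hei⟩ := exists_iso_W_one p G h1
      haveI := he
      haveI := hei
      let U := UG.unit p k
      haveI : LocallyOfFiniteType U.X.hom := inferInstanceAs (LocallyOfFiniteType (𝟙 (Spec (CommRingCat.of k))))
      let j : U.X ⟶ G.X := η[G.X]
      have hker : AlgGrp.IsKernel j e.hom := by
        have hw : j ≫ e.hom = toUnit _ ≫ η[WittGrp.W p 1 (Spec (CommRingCat.of k))] := by
          rw [toUnit_unit, Category.id_comp]
          exact IsMonHom.one_hom e.hom
        refine IsPullback.of_isLimit' ⟨hw⟩ (PullbackCone.IsLimit.mk _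
          (fun c => toUnit _) (fun c => ?_) (fun c => toUnit_unique _ _) fun c m _ _ => toUnit_unique _ _)
        rw [← cancel_mono e.hom, c.condition, Category.assoc, hw, ← Category.assoc, toUnit_unique c.snd (toUnit _)]
        congr 1
      haveI : IsMonHom j := WittGrp.isMonHom_of_comp_mul j (by
          rw [toUnit_unique (1 : 𝟙_ _ ⟶ U.X) (𝟙 _), Category.id_comp]; exact MonObj.one_eq_one G.X)
        fun T a b => by
          rw [toUnit_unique (a * b) (toUnit _), toUnit_unique a (toUnit _), toUnit_unique b (toUnit _)]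
          show (1 : T ⟶ G.X) = 1 * 1
          rw [_root_.one_mul]
      haveI : IsClosedImmersion j.left := GrpField.isClosedImmersion_eta G.X
      obtain ⟨Sx⟩ := Sect.nonempty_of_section e.inv (by rw [e.inv_hom_id]) hker
      refine ⟨U, e.hom, j, he, inferInstance, inferInstance, ⟨Sx⟩, dm_lt G (H := U) j fun hs => ?_⟩
      haveI := hs
      obtain ⟨a, ha⟩ := exists_pt_ne_one (p := p) (k := k)
      obtain ⟨n, hn⟩ := exists_pt_lift j (a ≫ e.inv)
      have hn' : a ≫ e.inv = 1 := by rw [← hn, Hom.one_def]; congr 1; exact toUnit_unique _ _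
      exact ha (by rw [← cancel_mono e.inv, hn', MonObj.one_comp])

end Groth.Agent.WittUnip
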