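import Groth.Agent.WittHom.AddPoly
import Groth.Agent.S2680
import Groth.Agent.WittUnip.Coord

/-!
# Two primitive functions on a one-dimensional group are polynomials in a single one
-/

set_option autoImplicit false
set_option linter.style.haveILetI false
set_option linter.unusedSectionVars false

universe u

open MvPolynomial TensorProduct Coalgebra WithConv

noncomputable section

namespace Groth.Agent.WittUnip

section Translate

variable {k : Type u} [CommRing k] {σ : Type*}

/-- Translation of the variables. -/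
def transl' (w : σ → k) : MvPolynomial σ k →ₐ[k] MvPolynomial σ k := aeval fun i => X i + C (w i)

theorem totalDegree_transl_monomial (w : σ → k) (s : σ →₀ ℕ) (a : k) :
    ∀ d : ℕ, Finsupp.degree s ≤ d + 1 → (transl' w (monomial s a) - monomial s a).totalDegree ≤ d := by
  induction s using Finsupp.induction₂ with
  | zero =>
    intro d _
    rw [show monomial (0 : σ →₀ ℕ) a = C a from rfl, transl', aeval_C, MvPolynomial.algebraMap_eq, sub_self,
      totalDegree_zero]
    exact Nat.zero_le _
  | add_single i n s hs hn ih =>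
    clear hs hn
    induction n with
    | zero => simpa using ih
    | succ n ihn =>
      intro d hd
      have he : Finsupp.degree (s + Finsupp.single i n) ≤ d := by
        simp only [map_add, Finsupp.degree_single] at hd ⊢
        omega
      have hm : monomial (s + Finsupp.single i (n + 1)) a = monomial (s + Finsupp.single i n) a * X i := by
        rw [X, monomial_mul, mul_one, add_assoc, ← Finsupp.single_add]
      rw [hm]
      generalize hu : monomial (s + Finsupp.single i n) a = m at *
      have hmd : m.totalDegree ≤ d := by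
        rw [← hu]
        exact (totalDegree_monomial_le _ _).trans he
      have h1 : transl' w (m * X i) - m * X i = (transl' w m - m) * (X i + C (w i)) + m * C (w i) := by
        rw [map_mul, transl', aeval_X]
        ring
      rw [h1]
      refine (totalDegree_add _ _).trans (max_le ?_ ((totalDegree_mul _ _).trans (by simpa using hmd)))
      rcases Nat.eq_zero_or_pos (Finsupp.degree (s + Finsupp.single i n)) with h0 | h0
      · have : transl' w m - m = 0 := by
          rw [← hu, show s + Finsupp.single i n = 0 from (Finsupp.degree_eq_zero_iff _).1 h0,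
            show monomial (0 : σ →₀ ℕ) a = C a from rfl, transl', aeval_C, MvPolynomial.algebraMap_eq, sub_self]
        rw [this, zero_mul, totalDegree_zero]
        exact Nat.zero_le _
      · obtain ⟨e, rfl⟩ := Nat.exists_eq_add_of_le' (show 1 ≤ d by omega)
        refine (totalDegree_mul _ _).trans (add_le_add (ihn e he) ?_)
        refine (totalDegree_add _ _).trans (max_le ?_ (by simp))
        rw [X]
        exact (totalDegree_monomial_le _ _).trans (by simp [Finsupp.degree_single])

theorem totalDegree_transl (w : σ → k) {h : MvPolynomial σ k} {d : ℕ} (hd : h.totalDegree ≤ d + 1) :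
    (transl' w h - h).totalDegree ≤ d := by
  conv_lhs => rw [h.as_sum, map_sum, ← Finset.sum_sub_distrib]
  refine totalDegree_finsetSum_le fun s hs => totalDegree_transl_monomial w s _ d ?_
  exact le_trans (le_totalDegree hs) hd

theorem eval_transl (v w : σ → k) (h : MvPolynomial σ k) : eval v (transl' w h) = eval (v + w) h := by
  have : (eval v).comp (transl' w).toRingHom = eval (v + w) := MvPolynomial.ringHom_ext (fun r => by simp [transl'])
    fun i => by simp [transl']
  exact RingHom.congr_fun this h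

/-- A polynomial of least degree vanishing on a subgroup is additive. -/
theorem eval_add_of_minimal [IsDomain k] [Infinite k] (Γ : AddSubgroup (σ → k)) (h : MvPolynomial σ k) (hne : h ≠ 0)
    (hΓ : ∀ v ∈ Γ, eval v h = 0)
    (hmin : ∀ f : MvPolynomial σ k, (∀ v ∈ Γ, eval v f = 0) → f.totalDegree < h.totalDegree → f = 0) (v w : σ → k) :
    eval (v + w) h = eval v h + eval w h := by
  have h0 : eval (0 : σ → k) h = 0 := hΓ 0 Γ.zero_mem
  obtain ⟨d, hd⟩ : ∃ d, h.totalDegree = d + 1 := by
    refine Nat.exists_eq_add_of_le' (Nat.one_le_iff_ne_zero.2 fun hz => hne ?_)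
    rw [totalDegree_eq_zero_iff_eq_C.1 hz] at h0 ⊢
    rw [eval_C] at h0
    rw [h0, map_zero]
  have hinv : ∀ v ∈ Γ, ∀ w, eval (v + w) h = eval w h := fun v hv w => by
    have := hmin (transl' v h - h) (fun u hu => by
      rw [map_sub, eval_transl, hΓ _ (Γ.add_mem hu hv), hΓ u hu, sub_zero])
      (by rw [hd]; exact Nat.lt_succ_of_le (totalDegree_transl v hd.le))
    have h1 := congrArg (eval w) this
    rwa [map_sub, eval_transl, map_zero, sub_eq_zero, add_comm w v] at h1
  have := hmin (transl' w h - h - C (eval w h)) (fun u hu => by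
    rw [map_sub, map_sub, eval_transl, eval_C, hΓ u hu, hinv u hu, sub_zero, sub_self])
    (by
      rw [hd]
      exact Nat.lt_succ_of_le ((totalDegree_sub _ _).trans (max_le (totalDegree_transl w hd.le) (by simp))))
  have h1 := congrArg (eval v) this
  rw [map_sub, map_sub, eval_transl, eval_C, map_zero, sub_eq_zero, sub_eq_iff_eq_add] at h1
  rw [h1, add_comm]

end Translate

variable {p : ℕ} [Fact p.Prime] {k : Type u} [Field k] [IsAlgClosed k] [CharP k p]
  {A : Type u} [CommRing A] [IsDomain A] [HopfAlgebra k A]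

variable (k) in
/-- A primitive element. -/
def IsPrim (x : A) : Prop := comul (R := k) x = x ⊗ₜ[k] (1 : A) + (1 : A) ⊗ₜ[k] x

omit [IsAlgClosed k] [IsDomain A] in
theorem IsPrim.counit_eq_zero {x : A} (hx : IsPrim k x) : counit (R := k) x = 0 := by
  have h := congrArg (fun t => TensorProduct.lid k A ((counit (R := k) (A := A)).rTensor A t)) hx
  simp only [rTensor_counit_comul, map_add, LinearMap.rTensor_tmul, TensorProduct.lid_tmul,
    Bialgebra.counit_one, one_smul, Algebra.smul_def, mul_one] at h
  have h' : algebraMap k A (counit (R := k) x) = 0 := by linear_combination -h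
  haveI : Nontrivial A := (Bialgebra.counitAlgHom k A).toRingHom.domain_nontrivial
  exact (map_eq_zero _).1 h'

omit [IsAlgClosed k] [IsDomain A] in
theorem IsPrim.sub_smul_pow {x y : A} (hx : IsPrim k x) (hy : IsPrim k y) (c : k) (d : ℕ) :
    IsPrim k (y - c • x ^ p ^ d) := by
  haveI : Nontrivial A := (Bialgebra.counitAlgHom k A).toRingHom.domain_nontrivial
  haveI : Nontrivial (A ⊗[k] A) :=
    ((Algebra.TensorProduct.lift (Bialgebra.counitAlgHom k A) (Bialgebra.counitAlgHom k A)
      fun _ _ => .all _ _).toRingHom).domain_nontrivial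
  haveI : CharP (A ⊗[k] A) p := charP_of_injective_algebraMap (algebraMap k _).injective p
  haveI : ExpChar (A ⊗[k] A) p := ExpChar.prime (Fact.out (p := p.Prime))
  have hpow : IsPrim k (x ^ p ^ d) := by
    unfold IsPrim at hx ⊢
    rw [← Bialgebra.comulAlgHom_apply, map_pow, Bialgebra.comulAlgHom_apply, hx, add_pow_char_pow,
      Algebra.TensorProduct.tmul_pow, Algebra.TensorProduct.tmul_pow, one_pow]
  unfold IsPrim at hy hpow ⊢
  rw [map_sub, map_smul, hy, hpow, TensorProduct.sub_tmul, TensorProduct.tmul_sub, smul_add, TensorProduct.smul_tmul',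
    ← TensorProduct.tmul_smul]
  abel

omit [Fact p.Prime] [CharP k p] in
/-- A primitive function with a polynomial equation vanishes. -/
theorem IsPrim.eq_zero_of_aeval {x : A} (hx : IsPrim k x) {f : Polynomial k} (hf : f ≠ 0)
    (h : Polynomial.aeval x f = 0) : x = 0 := by
  have hint : IsIntegral k x := IsAlgebraic.isIntegral ⟨f, hf, h⟩
  obtain ⟨c, hc⟩ := minpoly.degree_eq_one_iff.mp
    (IsAlgClosed.degree_eq_one_of_irreducible k (minpoly.irreducible hint))
  have h1 := hx.counit_eq_zero
  rw [← hc, Bialgebra.counit_algebraMap] at h1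
  rw [← hc, h1, map_zero]

variable [Algebra.FiniteType k A]

/-- Two primitive functions on a curve satisfy an additive relation. -/
theorem exists_additive_relation (hdim : ringKrullDim A = (1 : ℕ)) {x y : A} (hx : IsPrim k x) (hy : IsPrim k y) :
    ∃ (N : ℕ) (a b : ℕ → k), (∃ j < N, a j ≠ 0 ∨ b j ≠ 0) ∧
      ∑ j ∈ Finset.range N, a j • x ^ p ^ j + ∑ j ∈ Finset.range N, b j • y ^ p ^ j = 0 := by
  classical
  obtain ⟨n, htr, hn, -⟩ := Groth.Agent.S2680.result k A
  obtain rfl : n = 1 := by rw [hdim] at hn; exact_mod_cast hn.symm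
  let ψ : MvPolynomial (Fin 2) k →ₐ[k] A := aeval ![x, y]
  obtain ⟨f, hf0, hfψ⟩ : ∃ f, f ≠ 0 ∧ ψ f = 0 := by
    by_contra hc
    push Not at hc
    have hinj : AlgebraicIndependent k ![x, y] :=
      algebraicIndependent_iff_injective_aeval.2 ((injective_iff_map_eq_zero ψ).2 fun g hg =>
        by_contra fun h => hc g h hg)
    have h := (hinj.map' (f := IsScalarTower.toAlgHom k A (FractionRing A))
      (IsFractionRing.injective A (FractionRing A))).lift_cardinalMk_le_trdeg
    rw [htr] at h
    simp at h
  let D : Set ℕ := {d | ∃ f, f ≠ 0 ∧ ψ f = 0 ∧ f.totalDegree = d}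
  obtain ⟨h, hne, hψ, hdeg⟩ := Nat.sInf_mem (s := D) ⟨_, f, hf0, hfψ, rfl⟩
  have hev : ∀ (χ : WithConv (A →ₐ[k] k)) (g : MvPolynomial (Fin 2) k),
      eval ![χ.ofConv x, χ.ofConv y] g = χ.ofConv (ψ g) := fun χ g =>
    RingHom.congr_fun (MvPolynomial.ringHom_ext (f := eval ![χ.ofConv x, χ.ofConv y])
      (g := (χ.ofConv.comp ψ).toRingHom) (fun r => by simp [ψ]) fun i => by fin_cases i <;> simp [ψ]) g
  let Γ : AddSubgroup (Fin 2 → k) :=
    { carrier := Set.range fun χ : WithConv (A →ₐ[k] k) => ![χ.ofConv x, χ.ofConv y]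
      zero_mem' := ⟨1, funext fun i => by
        fin_cases i <;> simp [hx.counit_eq_zero, hy.counit_eq_zero]⟩
      add_mem' := by
        rintro _ _ ⟨χ, rfl⟩ ⟨χ', rfl⟩
        exact ⟨χ * χ', funext fun i => by
          fin_cases i <;> simp [apply_mul_of_prim hx, apply_mul_of_prim hy]⟩
      neg_mem' := by
        rintro _ ⟨χ, rfl⟩
        refine ⟨χ⁻¹, funext fun i => eq_neg_of_add_eq_zero_left ?_⟩
        fin_cases i
        · show χ⁻¹.ofConv x + χ.ofConv x = 0
          rw [← apply_mul_of_prim hx, inv_mul_cancel]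
          exact (AlgHom.convOne_apply x).trans (by rw [hx.counit_eq_zero, map_zero])
        · show χ⁻¹.ofConv y + χ.ofConv y = 0
          rw [← apply_mul_of_prim hy, inv_mul_cancel]
          exact (AlgHom.convOne_apply y).trans (by rw [hy.counit_eq_zero, map_zero]) }
  have hadd := eval_add_of_minimal Γ h hne (by rintro _ ⟨χ, rfl⟩; rw [hev, hψ, map_zero]) fun g hg hlt => by
    by_contra hg0
    refine (Nat.sInf_le (s := D) ⟨g, hg0, eq_zero_of_forall_char (k := k) fun χ => ?_, rfl⟩).not_gt (hdeg ▸ hlt)
    have := hg _ ⟨toConv χ, rfl⟩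
    rwa [hev] at this
  let px : Polynomial k := aeval ![Polynomial.X, 0] h
  let py : Polynomial k := aeval ![0, Polynomial.X] h
  have hpx : ∀ t, px.eval t = eval ![t, 0] h := fun t =>
    RingHom.congr_fun (MvPolynomial.ringHom_ext
      (f := (Polynomial.evalRingHom t).comp (aeval ![Polynomial.X, (0 : Polynomial k)]).toRingHom)
      (g := eval ![t, 0]) (fun r => by simp) fun i => by fin_cases i <;> simp) h
  have hpy : ∀ t, py.eval t = eval ![0, t] h := fun t =>
    RingHom.congr_fun (MvPolynomial.ringHom_ext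
      (f := (Polynomial.evalRingHom t).comp (aeval ![(0 : Polynomial k), Polynomial.X]).toRingHom)
      (g := eval ![0, t]) (fun r => by simp) fun i => by fin_cases i <;> simp) h
  obtain ⟨N, a, ha⟩ := WittHom.exists_sum_of_additive (p := p) (P := px) fun s t => by
    rw [hpx, hpx, hpx, ← hadd]
    exact congrArg (fun v => eval v h) (funext fun i => by fin_cases i <;> simp)
  obtain ⟨M, b, hb⟩ := WittHom.exists_sum_of_additive (p := p) (P := py) fun s t => by
    rw [hpy, hpy, hpy, ← hadd]
    exact congrArg (fun v => eval v h) (funext fun i => by fin_cases i <;> simp)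
  let a' : ℕ → k := fun j => if j < N then a j else 0
  let b' : ℕ → k := fun j => if j < M then b j else 0
  have hext : ∀ (L : ℕ) (f : ℕ → k) (g : ℕ → k), L ≤ max N M →
      ∑ j ∈ Finset.range (max N M), (if j < L then f j else 0) * g j = ∑ j ∈ Finset.range L, f j * g j := fun L f g hL => by
    rw [← Finset.sum_subset (Finset.range_mono hL) fun e _ he => by rw [if_neg (by simpa using he), zero_mul]]
    exact Finset.sum_congr rfl fun e he => by rw [if_pos (Finset.mem_range.1 he)]
  have hval : ∀ v : Fin 2 → k, eval v h =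
      ∑ j ∈ Finset.range (max N M), a' j * v 0 ^ p ^ j + ∑ j ∈ Finset.range (max N M), b' j * v 1 ^ p ^ j := fun v => by
    rw [hext N a _ (le_max_left _ _), hext M b _ (le_max_right _ _), ← ha, ← hb, hpx, hpy, ← hadd]
    exact congrArg (fun v => eval v h) (funext fun i => by fin_cases i <;> simp)
  refine ⟨max N M, a', b', ?_, eq_zero_of_forall_char (k := k) fun χ => ?_⟩
  · by_contra hall
    push Not at hall
    exact hne (MvPolynomial.funext fun v => by
      rw [hval, map_zero, Finset.sum_eq_zero, Finset.sum_eq_zero, add_zero]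
      · intro j hj; rw [(hall j (Finset.mem_range.1 hj)).2, zero_mul]
      · intro j hj; rw [(hall j (Finset.mem_range.1 hj)).1, zero_mul])
  · have h1 : eval ![χ x, χ y] h = 0 := by
      rw [show eval ![χ x, χ y] h = χ (ψ h) from hev (toConv χ) h, hψ, map_zero]
    rw [hval] at h1
    simpa [map_sum, Algebra.smul_def] using h1

/-- One primitive function generates. -/
theorem exists_single (p : ℕ) [Fact p.Prime] [CharP k p] (hdim : ringKrullDim A = (1 : ℕ)) {x y : A} (hx : IsPrim k x) (hy : IsPrim k y) :
    ∃ z : A, IsPrim k z ∧ x ∈ Algebra.adjoin k {z} ∧ y ∈ Algebra.adjoin k {z} := by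
  classical
  haveI : Nontrivial A := (Bialgebra.counitAlgHom k A).toRingHom.domain_nontrivial
  haveI : CharP A p := charP_of_injective_algebraMap (algebraMap k A).injective p
  haveI : ExpChar A p := ExpChar.prime (Fact.out (p := p.Prime))
  have hmono : ∀ {z w u : A}, w ∈ Algebra.adjoin k {z} → u ∈ Algebra.adjoin k {w} → u ∈ Algebra.adjoin k {z} :=
    fun hw hu => Algebra.adjoin_le (Set.singleton_subset_iff.2 hw) hu
  suffices key : ∀ (K M N : ℕ) (a b : ℕ → k) (x y : A), M + N ≤ K → IsPrim k x → IsPrim k y →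
      ((∃ j < M, a j ≠ 0) ∨ ∃ j < N, b j ≠ 0) →
      ∑ j ∈ Finset.range M, a j • x ^ p ^ j + ∑ j ∈ Finset.range N, b j • y ^ p ^ j = 0 →
      ∃ z : A, IsPrim k z ∧ x ∈ Algebra.adjoin k {z} ∧ y ∈ Algebra.adjoin k {z} by
    obtain ⟨N, a, b, ⟨j, hj, hj'⟩, hab⟩ := exists_additive_relation (p := p) hdim hx hy
    exact key _ N N a b x y le_rfl hx hy (hj'.imp (fun h => ⟨j, hj, h⟩) fun h => ⟨j, hj, h⟩) hab
  have triv : ∀ (L : ℕ) (a : ℕ → k) (x : A), IsPrim k x → (∃ j < L, a j ≠ 0) →
      ∑ j ∈ Finset.range L, a j • x ^ p ^ j = 0 → x = 0 := by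
    rintro L a x hx ⟨j, hj, hja⟩ h
    refine hx.eq_zero_of_aeval (f := ∑ i ∈ Finset.range L, Polynomial.C (a i) * Polynomial.X ^ p ^ i) ?_ ?_
    · intro h0
      have hc := congrArg (fun f : Polynomial k => f.coeff (p ^ j)) h0
      simp only [Polynomial.finsetSum_coeff, Polynomial.coeff_C_mul_X_pow, Polynomial.coeff_zero] at hc
      rw [Finset.sum_eq_single j (fun i _ hi => if_neg fun e => hi (Nat.pow_right_injective
        (Fact.out (p := p.Prime)).two_le e).symm) (fun hh => absurd (Finset.mem_range.2 hj) hh), if_pos rfl] at hc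
      exact hja hc
    · simpa [map_sum, Algebra.smul_def] using h
  intro K
  induction K with
  | zero =>
    rintro M N a b x y hMN _ _ (⟨j, hj, -⟩ | ⟨j, hj, -⟩) _ <;> omega
  | succ K ih =>
    intro M N a b x y hMN hx hy hne h
    rcases Nat.eq_zero_or_pos M with rfl | hM
    · rw [Finset.range_zero, Finset.sum_empty, zero_add] at h
      obtain rfl : y = 0 := triv N b y hy (hne.resolve_left fun ⟨j, hj, _⟩ => absurd hj (Nat.not_lt_zero j)) h
      exact ⟨x, hx, Algebra.self_mem_adjoin_singleton k x, zero_mem _⟩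
    rcases Nat.eq_zero_or_pos N with rfl | hN
    · rw [Finset.range_zero, Finset.sum_empty, add_zero] at h
      obtain rfl : x = 0 := triv M a x hx (hne.resolve_right fun ⟨j, hj, _⟩ => absurd hj (Nat.not_lt_zero j)) h
      exact ⟨y, hy, zero_mem _, Algebra.self_mem_adjoin_singleton k y⟩
    obtain ⟨M, rfl⟩ := Nat.exists_eq_add_of_le' hM
    obtain ⟨N, rfl⟩ := Nat.exists_eq_add_of_le' hN
    by_cases haM : a M = 0
    · refine ih M (N + 1) a b x y (by omega) hx hy (hne.imp_left fun ⟨j, hj, hja⟩ => ⟨j, lt_of_le_of_ne (Nat.lt_succ_iff.1 hj) fun e => hja (e ▸ haM), hja⟩) ?_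
      rw [Finset.sum_range_succ (n := M), haM, zero_smul, add_zero] at h
      exact h
    by_cases hbN : b N = 0
    · refine ih (M + 1) N a b x y (by omega) hx hy (hne.imp_right fun ⟨j, hj, hjb⟩ => ⟨j, lt_of_le_of_ne (Nat.lt_succ_iff.1 hj) fun e => hjb (e ▸ hbN), hjb⟩) ?_
      rw [Finset.sum_range_succ (n := N), hbN, zero_smul, add_zero] at h
      exact h
    -- the reduction step
    have step : ∀ (M N : ℕ) (a b : ℕ → k) (x y : A), N ≤ M → M + N + 1 ≤ K → IsPrim k x → IsPrim k y →
        b N ≠ 0 →
        ∑ j ∈ Finset.range (M + 1), a j • x ^ p ^ j + ∑ j ∈ Finset.range (N + 1), b j • y ^ p ^ j = 0 →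
        ∃ z : A, IsPrim k z ∧ x ∈ Algebra.adjoin k {z} ∧ y ∈ Algebra.adjoin k {z} := by
      intro M N a b x y hNM hK hx hy hbN h
      obtain ⟨d, rfl⟩ := Nat.exists_eq_add_of_le hNM
      obtain ⟨c, hc⟩ := IsAlgClosed.exists_pow_nat_eq (-a (N + d) / b N) (pow_pos (Fact.out (p := p.Prime)).pos N)
      let y' := y - c • x ^ p ^ d
      have hyy : y = y' + c • x ^ p ^ d := (sub_add_cancel _ _).symm
      let a' : ℕ → k := fun i => a i + if d ≤ i then b (i - d) * c ^ p ^ (i - d) else 0
      have hexp : ∀ j, b j • y ^ p ^ j = b j • y' ^ p ^ j + (b j * c ^ p ^ j) • x ^ p ^ (d + j) := fun j => by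
        rw [hyy, add_pow_char_pow, smul_add, smul_pow, smul_smul, ← pow_mul, ← pow_add]
      have hsum : ∑ j ∈ Finset.range (N + d + 1), a' j • x ^ p ^ j + ∑ j ∈ Finset.range (N + 1), b j • y' ^ p ^ j = 0 := by
        rw [← h]
        simp only [hexp, Finset.sum_add_distrib, a', add_smul, ite_smul, zero_smul]
        rw [show N + d + 1 = d + (N + 1) by omega, Finset.sum_range_add
          (f := fun j => if d ≤ j then (b (j - d) * c ^ p ^ (j - d)) • x ^ p ^ j else 0),
          Finset.sum_eq_zero (s := Finset.range d) fun j hj => if_neg (not_le.2 (Finset.mem_range.1 hj)), zero_add]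
        simp only [Nat.le_add_right, if_true, Nat.add_sub_cancel_left]
        abel
      have hlead : a' (N + d) = 0 := by
        simp only [a', Nat.le_add_left, if_true, Nat.add_sub_cancel, hc]
        field_simp
        ring
      rw [Finset.sum_range_succ (n := N + d), hlead, zero_smul, add_zero] at hsum
      obtain ⟨z, hz, hxz, hyz⟩ := ih (N + d) (N + 1) a' b x y' (by omega) hx (hx.sub_smul_pow hy c d)
        (Or.inr ⟨N, Nat.lt_succ_self N, hbN⟩) hsum
      exact ⟨z, hz, hxz, by rw [hyy]; exact add_mem hyz (Subalgebra.smul_mem _ (pow_mem hxz _) c)⟩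
    rcases le_total N M with hle | hle
    · exact step M N a b x y hle (by omega) hx hy hbN h
    · obtain ⟨z, hz, h1, h2⟩ := step N M b a y x hle (by omega) hy hx haM (by rw [add_comm] at h; exact h)
      exact ⟨z, hz, h2, h1⟩

end Groth.Agent.WittUnip
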