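import Groth.Agent.WittUnip.Groups

/-!
# Extensions with a section
-/

set_option autoImplicit false
set_option linter.style.haveILetI false
set_option linter.unusedSectionVars false
set_option maxSynthPendingDepth 3

universe u

open CategoryTheory CategoryTheory.Limits MonoidalCategory CartesianMonoidalCategory MonObj GrpObj
open AlgebraicGeometry TopologicalSpace

noncomputable section

namespace Groth.Agent.WittUnip

variable {k : Type u} [Field k]

/-- A normalised section of an extension. -/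
structure Sect {E Q K : Over (Spec (CommRingCat.of k))} [GrpObj E] [GrpObj Q] (π : E ⟶ Q) (i : K ⟶ E) where
  /-- The section. -/
  s : Q ⟶ E
  sect : s ≫ π = 𝟙 Q
  norm : ∀ T : Over (Spec (CommRingCat.of k)), (1 : T ⟶ Q) ≫ s = 1
  ker : AlgGrp.IsKernel i π

namespace Sect

variable {E Q K : Over (Spec (CommRingCat.of k))} [GrpObj E] [GrpObj Q] {π : E ⟶ Q} {i : K ⟶ E}

theorem nonempty_of_section [IsMonHom π] (s : Q ⟶ E) (hs : s ≫ π = 𝟙 Q) (hker : AlgGrp.IsKernel i π) :
    Nonempty (Sect π i) := by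
  refine ⟨⟨((1 : Q ⟶ Q) ≫ s)⁻¹ * s, ?_, fun T => ?_, hker⟩⟩
  · rw [MonObj.mul_comp, GrpObj.inv_comp, Category.assoc, hs, Category.comp_id, inv_one, _root_.one_mul]
  · rw [MonObj.comp_mul, GrpObj.comp_inv, ← Category.assoc, MonObj.comp_one, inv_mul_cancel]

variable (S : Sect π i)

include S in
theorem mono : Mono i := ⟨fun _ _ h => S.ker.hom_ext h (toUnit_unique _ _)⟩

include S in
theorem i_comp_π {T : Over (Spec (CommRingCat.of k))} (a : T ⟶ K) : (a ≫ i) ≫ π = 1 := by
  rw [Category.assoc, S.ker.w, ← Category.assoc, toUnit_unique (a ≫ toUnit _) (toUnit _), Hom.one_def]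

variable [IsMonHom π]

/-- The retraction. -/
def r : E ⟶ K :=
  S.ker.lift (𝟙 E * (π ≫ S.s)⁻¹) (toUnit E) (by
    rw [MonObj.mul_comp, GrpObj.inv_comp, Category.assoc, S.sect, Category.id_comp, Category.comp_id,
      mul_inv_cancel, Hom.one_def])

theorem comp_r_comp {T : Over (Spec (CommRingCat.of k))} (e : T ⟶ E) :
    (e ≫ S.r) ≫ i = e * (e ≫ π ≫ S.s)⁻¹ := by
  rw [Category.assoc, r, S.ker.lift_fst, MonObj.comp_mul, GrpObj.comp_inv, Category.comp_id]

theorem decomp {T : Over (Spec (CommRingCat.of k))} (e : T ⟶ E) :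
    e = ((e ≫ S.r) ≫ i) * ((e ≫ π) ≫ S.s) := by
  rw [comp_r_comp, Category.assoc, inv_mul_cancel_right]

theorem comp_r_of_one {T : Over (Spec (CommRingCat.of k))} {e : T ⟶ E} (he : e ≫ π = 1) :
    (e ≫ S.r) ≫ i = e := by
  rw [comp_r_comp, ← Category.assoc, he, S.norm, inv_one, _root_.mul_one]

theorem i_r : i ≫ S.r = 𝟙 _ := by
  haveI := S.mono
  rw [← cancel_mono i, comp_r_comp, Category.id_comp, ← Category.assoc i π,
    show i ≫ π = 1 by simpa using S.i_comp_π (𝟙 _), S.norm, inv_one, _root_.mul_one]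

theorem s_r_comp {T : Over (Spec (CommRingCat.of k))} (x : T ⟶ Q) : ((x ≫ S.s) ≫ S.r) ≫ i = 1 := by
  rw [comp_r_comp, Category.assoc, ← Category.assoc S.s, S.sect, Category.id_comp, mul_inv_cancel]

theorem mul_comp_r {T : Over (Spec (CommRingCat.of k))} (a : T ⟶ K) (b : T ⟶ Q) :
    ((a ≫ i) * (b ≫ S.s)) ≫ π = b ∧ ((a ≫ i) * (b ≫ S.s)) ≫ S.r = a := by
  haveI := S.mono
  have h : ((a ≫ i) * (b ≫ S.s)) ≫ π = b := by
    rw [MonObj.mul_comp, S.i_comp_π, Category.assoc, S.sect, Category.comp_id, _root_.one_mul]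
  refine ⟨h, ?_⟩
  rw [← cancel_mono i, comp_r_comp, ← Category.assoc _ π, h, mul_inv_cancel_right]

/-- The extension is the product as an object over the field. -/
def iso : K ⊗ Q ≅ E where
  hom := (fst K Q ≫ i) * (snd K Q ≫ S.s)
  inv := lift S.r π
  hom_inv_id := by
    refine CartesianMonoidalCategory.hom_ext _ _ ?_ ?_
    · rw [Category.assoc, lift_fst, (S.mul_comp_r _ _).2, Category.id_comp]
    · rw [Category.assoc, lift_snd, (S.mul_comp_r _ _).1, Category.id_comp]
  inv_hom_id := by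
    rw [MonObj.comp_mul, ← Category.assoc (lift S.r π), ← Category.assoc (lift S.r π), lift_fst, lift_snd]
    simpa using (S.decomp (𝟙 E)).symm

/-- The cocycle on points of any scheme. -/
def cT {T : Over (Spec (CommRingCat.of k))} (x y : T ⟶ Q) : T ⟶ K :=
  ((x ≫ S.s) * (y ≫ S.s) * ((x * y) ≫ S.s)⁻¹) ≫ S.r

theorem cT_comp {T : Over (Spec (CommRingCat.of k))} (x y : T ⟶ Q) :
    S.cT x y ≫ i = (x ≫ S.s) * (y ≫ S.s) * ((x * y) ≫ S.s)⁻¹ := by
  refine S.comp_r_of_one ?_
  simp only [MonObj.mul_comp, GrpObj.inv_comp, Category.assoc, S.sect, Category.comp_id, mul_inv_cancel]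

theorem comp_cT {T T' : Over (Spec (CommRingCat.of k))} (g : T' ⟶ T) (x y : T ⟶ Q) :
    g ≫ S.cT x y = S.cT (g ≫ x) (g ≫ y) := by
  simp only [cT, ← Category.assoc, MonObj.comp_mul, GrpObj.comp_inv]

variable [GrpObj K] [IsMonHom i] [IsCommMonObj E]

theorem mul_r {T : Over (Spec (CommRingCat.of k))} (e e' : T ⟶ E) :
    (e * e') ≫ S.r = (e ≫ S.r) * (e' ≫ S.r) * S.cT (e ≫ π) (e' ≫ π) := by
  haveI := S.mono
  rw [← cancel_mono i]
  simp only [MonObj.mul_comp _ _ i, comp_r_comp, cT_comp]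
  rw [← Category.assoc (e * e'), MonObj.mul_comp e e' π, Category.assoc, Category.assoc]
  generalize e ≫ π ≫ S.s = a
  generalize e' ≫ π ≫ S.s = b
  generalize ((e ≫ π) * (e' ≫ π)) ≫ S.s = d
  calc e * e' * d⁻¹ = (e * a⁻¹ * (e' * b⁻¹)) * ((a * b) * d⁻¹) := by
        rw [_root_.mul_mul_mul_comm e a⁻¹, ← _root_.mul_inv, _root_.mul_assoc (e * e'), inv_mul_cancel_left]
    _ = _ := rfl

theorem cT_one {T : Over (Spec (CommRingCat.of k))} (x : T ⟶ Q) : S.cT x 1 = 1 := by
  haveI := S.mono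
  rw [← cancel_mono i, cT_comp, S.norm, _root_.mul_one, _root_.mul_one, mul_inv_cancel, MonObj.one_comp]

theorem cT_symm [IsCommMonObj Q] {T : Over (Spec (CommRingCat.of k))} (x y : T ⟶ Q) : S.cT x y = S.cT y x := by
  haveI := S.mono
  rw [← cancel_mono i, cT_comp, cT_comp, mul_comm (x ≫ S.s), mul_comm x]

theorem cT_coc {T : Over (Spec (CommRingCat.of k))} (x y z : T ⟶ Q) :
    S.cT y z * S.cT x (y * z) = S.cT (x * y) z * S.cT x y := by
  haveI := S.mono
  rw [← cancel_mono i, MonObj.mul_comp, MonObj.mul_comp, cT_comp, cT_comp, cT_comp, cT_comp, _root_.mul_assoc x]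
  generalize x ≫ S.s = a
  generalize y ≫ S.s = b
  generalize z ≫ S.s = d
  generalize (y * z) ≫ S.s = bd
  generalize (x * y) ≫ S.s = ab
  generalize (x * (y * z)) ≫ S.s = t
  calc b * d * bd⁻¹ * (a * bd * t⁻¹) = a * b * d * t⁻¹ := by
        rw [_root_.mul_mul_mul_comm, _root_.mul_comm (b * d), _root_.mul_mul_mul_comm a, _root_.mul_mul_mul_comm]
        simp [_root_.mul_assoc, _root_.mul_comm, mul_left_comm]
    _ = ab * d * t⁻¹ * (a * b * ab⁻¹) := by
        simp [_root_.mul_assoc, _root_.mul_comm, mul_left_comm]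

end Sect

section ug

variable [IsAlgClosed k] {p : ℕ} [Fact p.Prime]

/-- An extension with a section of unipotent groups is one. -/
@[reducible] def UG.ext (K Q : UG p k) (E : Over (Spec (CommRingCat.of k))) [GrpObj E] [IsCommMonObj E]
    {π : E ⟶ Q.X} {i : K.X ⟶ E} [IsMonHom π] [IsMonHom i] (S : Sect π i) : UG p k :=
  haveI : IsIso S.iso.inv.left := inferInstanceAs (IsIso ((Over.forget _).map S.iso.inv))
  haveI : IsIso S.iso.hom.left := inferInstanceAs (IsIso ((Over.forget _).map S.iso.hom))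
  haveI : Smooth E.hom := by
    haveI : Smooth (UG.prod K Q).X.hom := (UG.prod K Q).smooth
    rw [← Over.w S.iso.inv]
    exact inferInstanceAs (Smooth (S.iso.inv.left ≫ (UG.prod K Q).X.hom))
  haveI : IsAffine E.left := by
    haveI : IsAffine (K.X ⊗ Q.X).left := (UG.prod K Q).affine
    exact IsAffine.of_isIso S.iso.inv.left
  haveI : ConnectedSpace ↥E.left := by
    haveI : ConnectedSpace ↥(K.X ⊗ Q.X).left := (UG.prod K Q).conn
    exact S.iso.hom.left.homeomorph.surjective.connectedSpace S.iso.hom.left.continuous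
  { X := E
    killed := by
      obtain ⟨a, ha⟩ := K.killed
      obtain ⟨b, hb⟩ := Q.killed
      refine ⟨b + a, ?_⟩
      have h1 : ((𝟙 E) ^ p ^ b) ≫ π = 1 := by
        rw [MonObj.pow_comp, Category.id_comp]
        calc π ^ p ^ b = π ≫ (𝟙 Q.X) ^ p ^ b := by rw [MonObj.comp_pow, Category.comp_id]
          _ = 1 := by rw [hb, MonObj.comp_one]
      have h2 := S.comp_r_of_one h1
      have h3 : (((𝟙 E) ^ p ^ b) ≫ S.r) ^ p ^ a = 1 := by
        calc (((𝟙 E) ^ p ^ b) ≫ S.r) ^ p ^ a = (((𝟙 E) ^ p ^ b) ≫ S.r) ≫ (𝟙 K.X) ^ p ^ a := by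
              rw [MonObj.comp_pow, Category.comp_id]
          _ = 1 := by rw [ha, MonObj.comp_one]
      rw [pow_add, pow_mul, ← h2, ← MonObj.pow_comp, h3, MonObj.one_comp] }

end ug

end Groth.Agent.WittUnip
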